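import Groth.Agent.AmpleNbhd.Powers
import Groth.Agent.BiratFib.Basic
import Groth.Agent.CohBig.Chains
import Groth.Agent.TMul.AmpleBasis
import Groth.Agent.TMul.RelAmple

/-!
Neighbourhoods of the isomorphism locus of a birational proper morphism on which an ample module
descends.
-/

set_option autoImplicit false
set_option backward.isDefEq.respectTransparency false
set_option linter.style.haveILetI false

universe u

open CategoryTheory CategoryTheory.Limits AlgebraicGeometry TopologicalSpace Opposite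

noncomputable section

namespace Groth.Agent.AmpleNbhd

variable {X Y : Scheme.{u}}

/-- Proper morphisms with dense image are surjective. -/
theorem exists_preimage (f : Y ⟶ X) [IsProper f] (U : X.Opens) [IsIso (f ∣_ U)]
    (hd : Dense (U : Set X)) (x : X) : ∃ y : Y, f y = x := by
  have hsub : (U : Set X) ⊆ Set.range f := fun p hp => by
    obtain ⟨q, hq⟩ := (TopCat.homeoOfIso (asIso (f ∣_ U).base)).surjective ⟨p, hp⟩
    refine ⟨(f ⁻¹ᵁ U).ι q, ?_⟩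
    rw [← Scheme.Hom.comp_apply, ← morphismRestrict_ι, Scheme.Hom.comp_apply]
    exact congrArg Subtype.val hq
  exact closure_minimal hsub f.isClosedMap.isClosed_range (hd x)

/-- Sections restrict along open immersions with the same generating locus. -/
theorem exists_restrict_section (j : Y ⟶ X) [IsOpenImmersion j] {L : X.Modules} (hL : PicF.IsInvertible L)
    (s : Coh.structureModule X ⟶ L) :
    ∃ t : Coh.structureModule Y ⟶ L.restrict j, CohB1.genLocus _ t = j ⁻¹ᵁ CohB1.genLocus L s :=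
  ⟨((PicLoc.pullbackStructureIso j).inv ≫ (Scheme.Modules.pullback j).map s) ≫
      ((Scheme.Modules.restrictFunctorIsoPullback j).app L).inv,
    (TMul.genLocus_comp _ ((Scheme.Modules.restrictFunctorIsoPullback j).app L).symm.hom).trans
      (TMul.genLocus_pullback j hL s (PicLoc.pullbackStructureIso j).symm)⟩

/-- A closed set covered by finitely many affine opens meeting pairwise outside it is affine. -/
theorem exists_affine_compl {κ : Type u} [Finite κ] (U : X.Opens) (W : κ → X.Opens)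
    (hW : ∀ z, IsAffineOpen (W z)) (hsep : ∀ z w, z ≠ w → W z ⊓ W w ≤ U)
    (hcov : ∀ x : X, x ∈ U ∨ ∃ z, x ∈ W z) :
    ∃ (T : Scheme.{u}) (g : T ⟶ X), IsClosedImmersion g ∧ IsAffine T ∧ Set.range g.base = (U : Set X)ᶜ := by
  let I := Scheme.IdealSheafData.vanishingIdeal (⟨(U : Set X)ᶜ, U.2.isClosed_compl⟩ : Closeds X)
  have hr : Set.range I.subschemeι.base = (U : Set X)ᶜ := by
    rw [Scheme.IdealSheafData.range_subschemeι, Scheme.IdealSheafData.coe_support_vanishingIdeal]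
    rfl
  refine ⟨I.subscheme, I.subschemeι, inferInstance, ?_, hr⟩
  have hsup : (⨆ z, I.subschemeι ⁻¹ᵁ W z) = ⊤ := top_le_iff.1 fun p _ => by
    rcases hcov (I.subschemeι p) with h | ⟨z, hz⟩
    · exact ((hr.le ⟨p, rfl⟩) h).elim
    · exact Opens.mem_iSup.2 ⟨z, hz⟩
  have haff : IsAffineOpen (⊤ : I.subscheme.Opens) := hsup ▸ IsAffineOpen.iSup_of_disjoint
    (fun z => (hW z).preimage I.subschemeι) fun z w hzw => disjoint_iff.2 (le_bot_iff.1 fun p hp =>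
      ((hr.le ⟨p, rfl⟩) (hsep z w hzw ⟨hp.1, hp.2⟩)).elim)
  haveI : IsAffine ((⊤ : I.subscheme.Opens) : Scheme.{u}) := haff
  exact IsAffine.of_isIso I.subscheme.topIso.inv

variable [IsNoetherian X] [IsNoetherian Y]

/-- The piece at a point of codimension at most one outside the isomorphism locus. -/
theorem exists_piece (f : Y ⟶ X) [IsProper f] {L' : Y.Modules} (hL' : CohB1.IsAmple L') (U : X.Opens)
    [IsIso (f ∣_ U)] (hd : Dense (U : Set X)) (hd' : Dense ((f ⁻¹ᵁ U : Y.Opens) : Set Y))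
    (Z : Set X) (hZf : Z.Finite) (hZs : Z ⊆ (U : Set X)ᶜ) (hZ : ∀ x ∈ (U : Set X)ᶜ, ∃ w ∈ Z, w ⤳ x)
    (η : X) (hηZ : η ∈ Z) (hη : ringKrullDim (X.presheaf.stalk η) ≤ 1) :
    ∃ (W₀ W : X.Opens) (a : Γ(X, W)) (n : ℕ) (t : Coh.structureModule Y ⟶ CohB1.tensorPow L' (n + 1)),
      IsAffineOpen W₀ ∧ IsAffineOpen W ∧ η ∈ W ∧ U ⊓ W = X.basicOpen a ∧ W ≤ CohBig.finLocus f ∧
      f ⁻¹ᵁ W ≤ CohB1.genLocus _ t ∧ CohB1.genLocus _ t ≤ f ⁻¹ᵁ W₀ ∧
      (∀ ζ ∈ Z, ζ ≠ η → ∀ p ∈ W, ¬ ζ ⤳ p) ∧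
      ∀ ζ ∈ Z, ζ ≠ η → ∀ y ∈ CohB1.genLocus _ t, ¬ ζ ⤳ f y := by
  classical
  obtain ⟨P, hPf, -, hP⟩ := CohBound.exists_max_points (X := X) (B := Set.univ) isClosed_univ
  have hgenU : ∀ g, g ⤳ η → g ≠ η → g ∈ U ∧ g ∈ P := by
    intro g hg hgη
    have hmax : ∀ w, w ⤳ g → w = g := fun w hw =>
      by_contra fun hne => not_le_one_of_gen hg hgη hw hne hη
    obtain ⟨w, hwP, hw⟩ := hP g (Set.mem_univ g)
    exact ⟨CohBig.mem_of_dense_of_max hmax U hd, hmax w hw ▸ hwP⟩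
  have hηU : η ∉ U := hZs hηZ
  obtain ⟨W₀, hW₀, hηW₀, -⟩ := exists_isAffineOpen_mem_and_subset (x := η) (U := (⊤ : X.Opens)) trivial
  let N : Set X := {g | g ⤳ η ∧ g ≠ η}
  have hN : N.Finite := hPf.subset fun g hg => (hgenU g hg.1 hg.2).2
  have hNW : N ⊆ W₀ := fun g hg => hg.1.mem_open W₀.2 hηW₀
  let Cη : X.Opens := ⟨(closure {η})ᶜ, isClosed_closure.isOpen_compl⟩
  obtain ⟨a, ha, haN⟩ := exists_basicOpen_finite_le hW₀ Cη hN hNW fun g hg hg' =>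
    hg.2 (hg.1.antisymm (specializes_iff_mem_closure.2 hg')).eq
  let S : Set X := (U : Set X) ∩ ((W₀ : Set X) \ X.basicOpen a)
  have hηS : η ∉ closure S := notMem_closure_of_gen hηU Set.inter_subset_left fun g hg hgη =>
    ⟨X.basicOpen a, haN ⟨hg, hgη⟩, Set.disjoint_left.2 fun p hp hpS => hpS.2.2 hp⟩
  let C : Set X := ⋃ ζ ∈ Z \ {η}, closure ({ζ} : Set X)
  have hC : IsClosed C := (hZf.subset Set.sdiff_subset).isClosed_biUnion fun _ _ => isClosed_closure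
  have hηC : η ∉ C := fun h => by
    simp only [C, Set.mem_iUnion] at h
    obtain ⟨ζ, ⟨hζ, hζη⟩, h⟩ := h
    exact hZs hζ (hgenU ζ (specializes_iff_mem_closure.2 h) hζη).1
  let O₁ : X.Opens := W₀ ⊓ ⟨Cᶜ, hC.isOpen_compl⟩
  have hfib : (f.base ⁻¹' {η}).Finite := BiratFib.finite_fiber f U hd' inferInstance η hη
  obtain ⟨n, t, hfibt, htO, -⟩ := TMul.exists_finite_le hL' hfib (U := f ⁻¹ᵁ O₁)
    fun y hy => show f y ∈ O₁ from (show f y = η from hy) ▸ ⟨hηW₀, hηC⟩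
  have hlqf : LocallyQuasiFinite ((f ⁻¹ᵁ U).ι ≫ f) := by
    rw [← morphismRestrict_ι f U]
    infer_instance
  have hqf : ∀ y : Y, f y = η → f.QuasiFiniteAt y := fun y hy =>
    SpQS.qf_over_codim_one f η hη (fun w hw _ => by
      have hmem : w ∈ ((f ⁻¹ᵁ U : Y.Opens) : Set Y) :=
        SpQS.isMaxPt_mem_of_dense hw (f ⁻¹ᵁ U).isOpen hd'
      exact (Scheme.Hom.quasiFiniteAt_comp_iff_of_isOpenImmersion (f := (f ⁻¹ᵁ U).ι) (g := f)
        (x := ⟨w, hmem⟩)).1 (Scheme.Hom.quasiFiniteAt _ _)) y hy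
  have hηfin : η ∈ CohBig.finLocus f := fun ⟨y, hy, hyη⟩ => hy (hqf y hyη)
  have hcl : IsClosed (closure S ∪ C ∪ f '' ((CohB1.genLocus _ t : Y.Opens) : Set Y)ᶜ) :=
    (isClosed_closure.union hC).union (f.isClosedMap _ (CohB1.genLocus _ t).2.isClosed_compl)
  let O : X.Opens := ⟨(closure S ∪ C ∪ f '' ((CohB1.genLocus _ t : Y.Opens) : Set Y)ᶜ)ᶜ, hcl.isOpen_compl⟩
  have hηO : η ∈ O := fun h => by
    rcases h with (h | h) | ⟨y, hy, hyη⟩
    · exact hηS h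
    · exact hηC h
    · exact hy (hfibt hyη)
  obtain ⟨h₀, hh₀, hηh⟩ := hW₀.exists_basicOpen_le (V := O ⊓ CohBig.finLocus f) ⟨η, hηO, hηfin⟩ hηW₀
  have hle : X.basicOpen h₀ ≤ W₀ := X.basicOpen_le h₀
  have hav : ∀ ζ ∈ Z, ζ ≠ η → ∀ p ∈ X.basicOpen h₀, ¬ ζ ⤳ p := fun ζ hζ hne p hp hs =>
    (hh₀ hp).1 (Or.inl (Or.inr (Set.mem_biUnion (show ζ ∈ Z \ {η} from ⟨hζ, hne⟩) hs.mem_closure)))
  refine ⟨W₀, X.basicOpen h₀, QC.resO X hle a, n, t, hW₀, hW₀.basicOpen h₀, hηh, ?_,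
    fun p hp => (hh₀ hp).2, fun y hy => by_contra fun hyt => (hh₀ hy).1 (Or.inr ⟨y, hyt, rfl⟩),
    fun y hy => (htO hy).1, hav, fun ζ hζ hne y hy hs =>
      (htO hy).2 (Set.mem_biUnion (show ζ ∈ Z \ {η} from ⟨hζ, hne⟩) hs.mem_closure)⟩
  have hres : X.basicOpen (QC.resO X hle a) = X.basicOpen h₀ ⊓ X.basicOpen a := X.basicOpen_res a _
  rw [hres]
  ext p
  constructor
  · intro hp
    exact ⟨hp.2, by_contra fun hpa =>
      (hh₀ hp.2).1 (Or.inl (Or.inl (subset_closure ⟨hp.1, hle hp.2, hpa⟩)))⟩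
  · intro hp
    refine ⟨?_, hp.1⟩
    by_contra hpU
    obtain ⟨ζ, hζ, hs⟩ := hZ p hpU
    by_cases hne : ζ = η
    · exact ha hp.2 ((hne ▸ hs).mem_closure)
    · exact hav ζ hζ hne p hp.1 hs

/-- An open containing the isomorphism locus and the points of codimension at most one over which
the morphism is finite and a positive power of an ample module descends to an ample module. -/
theorem exists_birat_nbhd (f : Y ⟶ X) [IsProper f] {L' : Y.Modules} (hL' : CohB1.IsAmple L')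
    (U : X.Opens) [IsIso (f ∣_ U)] (hd : Dense (U : Set X))
    (hd' : Dense ((f ⁻¹ᵁ U : Y.Opens) : Set Y)) :
    ∃ V : X.Opens, U ≤ V ∧
      (∃ (T : Scheme.{u}) (g : T ⟶ (V : Scheme.{u})), IsClosedImmersion g ∧ IsAffine T ∧
        Set.range (g ≫ V.ι).base = (V : Set X) \ (U : Set X)) ∧
      (∀ y : X, ringKrullDim (X.presheaf.stalk y) ≤ 1 → y ∈ V) ∧ IsFinite (f ∣_ V) ∧
      ∃ (L : (V : Scheme.{u}).Modules) (n : ℕ), 1 ≤ n ∧ CohB1.IsAmple L ∧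
        Nonempty ((Scheme.Modules.pullback (f ∣_ V)).obj L ≅
          (CohB1.tensorPow L' n).restrict (f ⁻¹ᵁ V).ι) := by
  classical
  obtain ⟨Z, hZf, hZs, hZ⟩ := CohBound.exists_max_points (X := X) (B := (U : Set X)ᶜ) U.2.isClosed_compl
  let T := {η : X // η ∈ Z ∧ ringKrullDim (X.presheaf.stalk η) ≤ 1}
  haveI : Finite T := (hZf.subset fun η h => h.1 :
    Set.Finite {η : X | η ∈ Z ∧ ringKrullDim (X.presheaf.stalk η) ≤ 1}).to_subtype
  choose W₀ W a nT tT hW₀ hW hηW ha hWfin hWt htW₀ hav hav' using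
    fun η : T => exists_piece f hL' U hd hd' Z hZf hZs hZ η.1 η.2.1 η.2.2
  have hUsec : ∀ y : Y, y ∈ f ⁻¹ᵁ U → ∃ (A : X.Opens) (n : ℕ)
      (t : Coh.structureModule Y ⟶ CohB1.tensorPow L' (n + 1)), IsAffineOpen A ∧ A ≤ U ∧
      y ∈ CohB1.genLocus _ t ∧ CohB1.genLocus _ t ≤ f ⁻¹ᵁ A := fun y hy => by
    obtain ⟨A, hA, hyA, hAU⟩ := exists_isAffineOpen_mem_and_subset (U := U) (show f y ∈ U from hy)
    obtain ⟨n, t, h1, h2, -⟩ := TMul.exists_mem_le hL' (U := f ⁻¹ᵁ A) hyA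
    exact ⟨A, n, t, hA, hAU, h1, h2⟩
  choose A nA tA hA hAU hyt htA using hUsec
  obtain ⟨F, hF⟩ := (NoetherianSpace.isCompact ((f ⁻¹ᵁ U : Y.Opens) : Set Y)).elim_finite_subcover
    (fun y : {y : Y // y ∈ f ⁻¹ᵁ U} => ((CohB1.genLocus _ (tA y.1 y.2) : Y.Opens) : Set Y))
    (fun y => (CohB1.genLocus _ (tA y.1 y.2)).2) fun y hy => Set.mem_iUnion.2 ⟨⟨y, hy⟩, hyt y hy⟩
  let J := T ⊕ {y : {y : Y // y ∈ f ⁻¹ᵁ U} // y ∈ F}
  haveI := Fintype.ofFinite T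
  let nJ : J → ℕ := Sum.elim nT fun y => nA y.1.1 y.1.2
  obtain ⟨N, hN⟩ : ∃ N, N + 1 = ∏ i : J, (nJ i + 1) :=
    ⟨_, Nat.sub_add_cancel (Finset.prod_pos fun i _ => Nat.succ_pos _)⟩
  let B : J → X.Opens := Sum.elim W₀ fun y => A y.1.1 y.1.2
  have hB : ∀ i, IsAffineOpen (B i) := fun i => by
    rcases i with η | y
    · exact hW₀ η
    · exact hA _ _
  have hsec : ∀ i : J, ∃ s : Coh.structureModule Y ⟶ CohB1.tensorPow L' (N + 1),
      CohB1.genLocus _ s ≤ f ⁻¹ᵁ B i ∧ (∀ η, i = .inl η → f ⁻¹ᵁ W η ≤ CohB1.genLocus _ s) ∧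
      (∀ η, i ≠ .inl η → f ⁻¹ᵁ W η ⊓ CohB1.genLocus _ s ≤ f ⁻¹ᵁ U) ∧
      ∀ y, i = .inr y → CohB1.genLocus _ (tA y.1.1 y.1.2) ≤ CohB1.genLocus _ s := by
    intro i
    have hdvd : nJ i + 1 ∣ N + 1 := hN ▸ Finset.dvd_prod_of_mem _ (Finset.mem_univ i)
    rcases i with θ | y
    · obtain ⟨s, hs⟩ := TMul.exists_genLocus_pow hL'.1 (N := N) hdvd (tT θ)
      refine ⟨s, hs.le.trans (htW₀ θ), fun η h => ?_, fun η h p hp => ?_, fun y h => absurd h Sum.inl_ne_inr⟩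
      · cases h; exact (hWt _).trans hs.ge
      · show f p ∈ U
        by_contra hpU
        obtain ⟨ζ, hζ, hsp⟩ := hZ _ hpU
        by_cases hne : ζ = η.1
        · exact hav' θ ζ hζ (fun e => h (congrArg Sum.inl (Subtype.ext (e.symm.trans hne)))) p
            (hs.le hp.2) hsp
        · exact hav η ζ hζ hne _ hp.1 hsp
    · obtain ⟨s, hs⟩ := TMul.exists_genLocus_pow hL'.1 (N := N) hdvd (tA y.1.1 y.1.2)
      refine ⟨s, hs.le.trans (htA _ _), fun η h => absurd h Sum.inr_ne_inl, fun η _ => ?_, fun y' h => ?_⟩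
      · exact inf_le_right.trans ((hs.le.trans (htA _ _)).trans (f.preimage_mono (hAU _ _)))
      · cases h; exact hs.ge
  choose s hsB hsW hsU hsA using hsec
  let V : X.Opens := U ⊔ ⨆ k, W k
  have hUV : U ≤ V := le_sup_left
  have hWV : ∀ k, W k ≤ V := fun k => (le_iSup W k).trans le_sup_right
  have hsep : ∀ z w : T, z ≠ w → W z ⊓ W w ≤ U := fun z w hzw p hp => by
    by_contra hpU
    obtain ⟨ζ, hζ, hs⟩ := hZ p hpU
    by_cases hne : ζ = z.1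
    · exact hav w ζ hζ (fun e => hzw (Subtype.ext (hne.symm.trans e))) p hp.2 hs
    · exact hav z ζ hζ hne p hp.1 hs
  have hlqf : LocallyQuasiFinite ((f ⁻¹ᵁ U).ι ≫ f) := by
    rw [← morphismRestrict_ι f U]
    infer_instance
  have hVfin : V ≤ CohBig.finLocus f := by
    refine sup_le (fun p hp ⟨y, hy, hyp⟩ => hy ?_) (iSup_le hWfin)
    exact (Scheme.Hom.quasiFiniteAt_comp_iff_of_isOpenImmersion (f := (f ⁻¹ᵁ U).ι) (g := f)
      (x := ⟨y, show f y ∈ U from hyp ▸ hp⟩)).1 (Scheme.Hom.quasiFiniteAt _ _)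
  haveI hfinite : IsFinite (f ∣_ V) := CohBig.isFinite_finLocus f hVfin
  haveI : IsNoetherian (V : Scheme.{u}) :=
    { toIsLocallyNoetherian := LocallyOfFiniteType.isLocallyNoetherian V.ι
      toCompactSpace := isCompact_iff_compactSpace.1 (NoetherianSpace.isCompact _) }
  haveI : IsIso ((f ∣_ V) ∣_ (V.ι ⁻¹ᵁ U)) := by
    have e : V.ι ''ᵁ (V.ι ⁻¹ᵁ U) = U := by
      rw [Scheme.Hom.image_preimage_eq_opensRange_inf, Scheme.Opens.opensRange_ι, inf_eq_right.2 hUV]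
    have h2 : ∀ O : X.Opens, O = U → MorphismProperty.isomorphisms Scheme.{u} (f ∣_ O) := by
      rintro O rfl
      exact inferInstanceAs (IsIso (f ∣_ O))
    exact (MorphismProperty.arrow_mk_iso_iff (MorphismProperty.isomorphisms Scheme.{u})
      (morphismRestrictRestrict f V _)).2 (h2 _ e)
  have hpre : ∀ {O : X.Opens}, IsAffineOpen O → O ≤ V → IsAffineOpen (V.ι ⁻¹ᵁ O) := fun {O} hO hle => by
    rw [← V.ι.isAffineOpen_iff_of_isOpenImmersion, Scheme.Hom.image_preimage_eq_opensRange_inf,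
      Scheme.Opens.opensRange_ι, inf_eq_right.2 hle]
    exact hO
  have hbo : ∀ (O : X.Opens) (c : Γ(X, O)),
      V.toScheme.basicOpen (V.ι.app O c) = V.ι ⁻¹ᵁ X.basicOpen c := fun O c =>
    (Scheme.preimage_basicOpen V.ι c).symm
  have hcov : ∀ v : V, v ∈ V.ι ⁻¹ᵁ U ∨ ∃ k, v ∈ V.ι ⁻¹ᵁ W k := fun v => by
    rcases Opens.mem_sup.1 (show V.ι v ∈ U ⊔ ⨆ k, W k from v.2) with h | h
    · exact Or.inl h
    · obtain ⟨k, hk⟩ := Opens.mem_iSup.1 h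
      exact Or.inr ⟨k, hk⟩
  have hsep' : ∀ z w : T, z ≠ w → V.ι ⁻¹ᵁ W z ⊓ V.ι ⁻¹ᵁ W w ≤ V.ι ⁻¹ᵁ U := fun z w h v hv =>
    hsep z w h hv
  refine ⟨V, hUV, ?_, fun y hy => ?_, hfinite, ?_⟩
  · obtain ⟨C, g, hg, hC, hrg⟩ := exists_affine_compl (V.ι ⁻¹ᵁ U) (fun k => V.ι ⁻¹ᵁ W k)
      (fun k => hpre (hW k) (hWV k)) hsep' hcov
    refine ⟨C, g, hg, hC, ?_⟩
    rw [show ((g ≫ V.ι).base : C → X) = V.ι.base ∘ g.base from rfl, Set.range_comp, hrg]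
    ext p
    exact ⟨fun ⟨v, hv, hvp⟩ => hvp ▸ ⟨v.2, hv⟩, fun hp => ⟨⟨p, hp.1⟩, hp.2, rfl⟩⟩
  · by_cases hyU : y ∈ U
    · exact hUV hyU
    · obtain ⟨ζ, hζ, hs⟩ := hZ y hyU
      obtain ⟨P, -, -, hP⟩ := CohBound.exists_max_points (X := X) (B := Set.univ) isClosed_univ
      have hζy : ζ = y := by_contra fun hne => hZs hζ (CohBig.mem_of_dense_of_max
        (fun w hw => by_contra fun h => not_le_one_of_gen hs hne hw h hy) U hd)
      exact hWV ⟨y, hζy ▸ hζ, hy⟩ (hηW ⟨y, hζy ▸ hζ, hy⟩)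
  have hM : PicF.IsInvertible ((CohB1.tensorPow L' (N + 1)).restrict (f ⁻¹ᵁ V).ι) :=
    TMul.isInvertible_restrict _ (TMul.isInvertible_tensorPow hL'.1 _)
  choose t ht using fun i : J =>
    exists_restrict_section (f ⁻¹ᵁ V).ι (TMul.isInvertible_tensorPow hL'.1 _) (s i)
  have hf : ∀ p : (f ⁻¹ᵁ V : Y.Opens), V.ι ((f ∣_ V) p) = f p.1 := fun p => by
    rw [← Scheme.Hom.comp_apply, morphismRestrict_ι]
    rfl
  obtain ⟨n, L, hn, hL, ⟨eL⟩, hLs⟩ := exists_ample_descent (f ∣_ V) (V.ι ⁻¹ᵁ U)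
    (fun k => V.ι ⁻¹ᵁ W k) (fun k => hpre (hW k) (hWV k)) (fun k => V.ι.app (W k) (a k))
    (fun k => by rw [hbo, ← ha k]; rfl) hsep' hcov hM t Sum.inl
    (fun k p hp => (ht _).ge (hsW _ k rfl (show f p.1 ∈ W k from hf p ▸ hp)))
    (fun i k => or_iff_not_imp_left.2 fun h p hp => by
      show V.ι ((f ∣_ V) p) ∈ U
      rw [hf]
      exact hsU i k h (show p.1 ∈ _ from ⟨show f p.1 ∈ W k from hf p ▸ hp.1, (ht i).le hp.2⟩))
  obtain ⟨i₁⟩ := TMul.nonempty_restrictPowIso (f ⁻¹ᵁ V).ι (CohB1.tensorPow L' (N + 1)) n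
  obtain ⟨i₂⟩ := TMul.nonempty_powMulIso L' (N + 1) n
  refine ⟨L, (N + 1) * n, Nat.mul_pos (Nat.succ_pos _) hn, ⟨hL, inferInstance, fun v => ?_⟩,
    ⟨eL ≪≫ i₁ ≪≫ (Scheme.Modules.restrictFunctor _).mapIso i₂⟩⟩
  obtain ⟨y, hy⟩ := exists_preimage f U hd (V.ι v)
  let p : (f ⁻¹ᵁ V : Y.Opens) := ⟨y, show f y ∈ V from hy ▸ v.2⟩
  have hp : (f ∣_ V) p = v := V.ι.injective ((hf p).trans hy)
  obtain ⟨i, hi⟩ : ∃ i : J, p.1 ∈ CohB1.genLocus _ (s i) := by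
    rcases hcov v with h | ⟨k, hk⟩
    · obtain ⟨z, hzF, hz⟩ := Set.mem_iUnion₂.1 (hF (show f y ∈ U from hy ▸ h))
      exact ⟨.inr ⟨z, hzF⟩, hsA _ ⟨z, hzF⟩ rfl hz⟩
    · exact ⟨.inl k, hsW _ k rfl (show f y ∈ W k from hy ▸ hk)⟩
  obtain ⟨σ, hσ⟩ := hLs i
  have hloc : CohB1.genLocus L σ ≤ V.ι ⁻¹ᵁ B i := fun w hw => by
    obtain ⟨z, hz⟩ := exists_preimage f U hd (V.ι w)
    let q : (f ⁻¹ᵁ V : Y.Opens) := ⟨z, show f z ∈ V from hz ▸ w.2⟩
    have hq : (f ∣_ V) q = w := V.ι.injective ((hf q).trans hz)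
    have h1 : q ∈ (f ∣_ V) ⁻¹ᵁ CohB1.genLocus L σ := show (f ∣_ V) q ∈ _ from hq ▸ hw
    show V.ι w ∈ B i
    rw [← hz]
    exact hsB i ((ht i).le (hσ.le h1))
  have hvσ : v ∈ CohB1.genLocus L σ := hp ▸ hσ.ge ((ht i).ge hi)
  obtain ⟨c, hc, hvc⟩ := (hB i).exists_basicOpen_le (V := V.ι ''ᵁ CohB1.genLocus L σ)
    ⟨V.ι v, ⟨v, hvσ, rfl⟩⟩ (hloc hvσ)
  have hcV : X.basicOpen c ≤ V := fun q hq => by
    obtain ⟨w, -, rfl⟩ := hc hq
    exact w.2
  have hsub : V.ι ⁻¹ᵁ X.basicOpen c ≤ CohB1.genLocus L σ :=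
    (V.ι.preimage_mono hc).trans (Scheme.Hom.preimage_image_eq _ _).le
  obtain ⟨m, τ, hτ⟩ := TMul.exists_genLocus_eq_basicOpen hL σ (QC.resO _ hloc (V.ι.app (B i) c))
  rw [show V.toScheme.basicOpen (QC.resO _ hloc (V.ι.app (B i) c)) =
      CohB1.genLocus L σ ⊓ V.toScheme.basicOpen (V.ι.app (B i) c) from V.toScheme.basicOpen_res _ _,
    hbo, inf_eq_right.2 hsub] at hτ
  refine ⟨m, τ, ?_, ?_⟩
  · rw [hτ]; exact hvc
  · rw [hτ]; exact hpre ((hB i).basicOpen c) hcV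

end Groth.Agent.AmpleNbhd
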