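import Groth.Agent.AmpleNbhd.CoverPow
import Groth.Agent.SymAlg.InvDual
import Groth.Agent.QC.FTIdeal
import Groth.Agent.QC.Extend
import Groth.Agent.TMul.GlobGen
import Groth.Agent.TMul.AmpleBasis

/-!
Coherent extensions of the inverse of an invertible module on an open, with a cosection extending a
given section and vanishing outside its locus.
-/

set_option autoImplicit false
set_option backward.isDefEq.respectTransparency false
set_option linter.style.haveILetI false

universe u

open CategoryTheory CategoryTheory.Limits AlgebraicGeometry TopologicalSpace Opposite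
open Groth.Agent.QC (res resO res_res res_smul resO_resO app_res section_eq_of_locally)
open TMul (tm val IsGen)

noncomputable section

namespace Groth.Agent.AmpleNbhd

variable {X : Scheme.{u}}

/-- The cosection of an inverse given by a section. -/
theorem exists_dual_cosection {L N : X.Modules} (hL : PicF.IsInvertible L) (e : CohB1.tensorMod N L ≅ Coh.structureModule X)
    (s : Coh.structureModule X ⟶ L) :
    ∃ σ : N ⟶ Coh.structureModule X, (∀ (U : X.Opens) (n : Γ(N, U)), X.basicOpen (co σ U n) ≤ CohB1.genLocus L s) ∧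
      ∃ n : Γ(N, CohB1.genLocus L s), co σ _ n = 1 := by
  let σ : N ⟶ Coh.structureModule X :=
    ⟨PresheafOfModules.homMk
      { app := fun W => AddCommGrpCat.ofHom
          (AddMonoidHom.mk' (fun n : Γ(N, W.unop) => e.hom.app W.unop (tm n (val s W.unop))) fun a b => by
            rw [TMul.tm_add, map_add])
        naturality := fun W W' i => by
          ext n
          change e.hom.app W'.unop (tm (res N i.unop.le n) (val s W'.unop)) =
            res (Coh.structureModule X) i.unop.le (e.hom.app W.unop (tm n (val s W.unop)))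
          rw [app_res, TMul.res_tm, TMul.res_val] }
      fun W r n => (congrArg (e.hom.app W.unop) (TMul.smul_tm r (show Γ(N, W.unop) from n)
        (val s W.unop))).trans (TMul.app_smul _ _ _)⟩
  have hσ : ∀ (U : X.Opens) (n : Γ(N, U)), co σ U n = co e.hom U (tm n (val s U)) := fun U n => rfl
  refine ⟨σ, fun U n x hx => ?_, ?_⟩
  · obtain ⟨W, g, hxW, hg⟩ := TMul.exists_isGen hL x
    have hxU : x ∈ U := X.basicOpen_le _ hx
    have hg' : IsGen (res L (inf_le_right : U ⊓ W ≤ W) g) := hg.res _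
    obtain ⟨c, hc⟩ := (hg' _ le_rfl).2 (val s (U ⊓ W))
    simp only [Groth.Agent.QC.res_self] at hc
    have h2 : resO X (inf_le_left : U ⊓ W ≤ U) (co σ U n) =
        c * co e.hom (U ⊓ W) (tm (res N inf_le_left n) (res L inf_le_right g)) := by
      rw [resO_co, hσ, ← co_smul, ← TMul.tm_smul, hc]
    have h3 : x ∈ X.basicOpen c := by
      have h4 : x ∈ X.basicOpen (resO X (inf_le_left : U ⊓ W ≤ U) (co σ U n)) := by
        rw [show X.basicOpen (resO X (inf_le_left : U ⊓ W ≤ U) (co σ U n)) =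
          (U ⊓ W) ⊓ X.basicOpen (co σ U n) from X.basicOpen_res _ _]
        exact ⟨⟨hxU, hxW⟩, hx⟩
      rw [h2, Scheme.basicOpen_mul] at h4
      exact h4.1
    exact ((TMul.genLocus_inf s hg' hc.symm).ge h3).2
  · have hgen : IsGen (val s (CohB1.genLocus L s)) := TMul.isGen_genLocus s
    obtain ⟨m, hm⟩ := (TMul.tm_bijective (M := N) hgen _ le_rfl).2
      (e.inv.app _ (show Γ(Coh.structureModule X, CohB1.genLocus L s) from (1 : Γ(X, CohB1.genLocus L s))))
    simp only [Groth.Agent.QC.res_self] at hm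
    refine ⟨m, ?_⟩
    rw [hσ, hm]
    exact congrArg (fun α : Coh.structureModule X ⟶ Coh.structureModule X => α.app _
      (show Γ(Coh.structureModule X, CohB1.genLocus L s) from (1 : Γ(X, CohB1.genLocus L s)))) e.inv_hom_id


theorem isInvertible_congr {L L' : X.Modules} (e : L ≅ L') (h : PicF.IsInvertible L) :
    PicF.IsInvertible L' := fun x => by
  obtain ⟨U, hx, ⟨φ⟩⟩ := h x
  exact ⟨U, hx, ⟨((Scheme.Modules.restrictFunctor U.ι).mapIso e).symm ≪≫ φ⟩⟩

variable [IsNoetherian X]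

set_option maxHeartbeats 1000000 in
/-- Coherent extensions of inverses with cosections vanishing outside the locus of a section. -/
theorem exists_cosection (V : X.Opens) {L : (V : Scheme.{u}).Modules} (hL : PicF.IsInvertible L)
    (s : Coh.structureModule (V : Scheme.{u}) ⟶ L) :
    ∃ (F : X.Modules) (σ : F ⟶ Coh.structureModule X), Coh.IsCoh F ∧ PicF.IsInvertible (F.restrict V.ι) ∧
      Nonempty (CohB1.tensorMod (F.restrict V.ι) L ≅ Coh.structureModule (V : Scheme.{u})) ∧
      (∀ (U : X.Opens) (t : Γ(F, U)), X.basicOpen (co σ U t) ≤ V.ι ''ᵁ CohB1.genLocus L s) ∧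
      ∃ t : Γ(F, V.ι ''ᵁ CohB1.genLocus L s), co σ _ t = 1 := by
  haveI : IsNoetherian (V : Scheme.{u}) :=
    { toIsLocallyNoetherian := LocallyOfFiniteType.isLocallyNoetherian V.ι
      toCompactSpace := isCompact_iff_compactSpace.1 (NoetherianSpace.isCompact _) }
  obtain ⟨N, hN, ⟨e'⟩⟩ := SymAlg.exists_inverse hL
  let e : CohB1.tensorMod N L ≅ Coh.structureModule (V : Scheme.{u}) := TMul.commIso N L ≪≫ e'
  obtain ⟨σV, hσV, n₁, hn₁⟩ := exists_dual_cosection hL e s
  have hNq : Coh.IsQCoh N := TMul.isQCoh_of_isInvertible hN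
  have hP : Coh.IsQCoh ((Scheme.Modules.pushforward V.ι).obj N) := by
    haveI : N.IsQuasicoherent := hNq
    exact QC.isQCoh_pushforward V.ι
  haveI : ((Scheme.Modules.pushforward V.ι).obj N).IsQuasicoherent := hP
  haveI : N.IsQuasicoherent := hNq
  let ε : N ⟶ ((Scheme.Modules.pushforward V.ι).obj N).restrict V.ι :=
    ((Scheme.Modules.restrictFunctorAdjCounitIso V.ι).app N).inv
  obtain ⟨F₁, i₁, e₁, -, hF₁q, hF₁t, -⟩ := QC.exists_ft_extension
    (fun x => ⟨⊤, trivial, NoetherianSpace.set _⟩) V N ε (TMul.isFT_of_isInvertible hN)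
  obtain ⟨I, J, i, hi, hJq, -, hI, -, hsupp⟩ := QC.exists_ftIdeal V (NoetherianSpace.isCompact _)
  haveI := hi
  have hvan : ∀ (U : X.Opens) (t : Γ(J, U)), X.basicOpen (co i U t) ≤ V := by
    intro U t x hx
    by_contra hxV
    obtain ⟨W, hW, hxW, hWU₀⟩ := exists_isAffineOpen_mem_and_subset (X.basicOpen_le _ hx)
    have hWU : W ≤ U := hWU₀
    have hmem : resO X hWU (co i U t) ∈ I.ideal ⟨W, hW⟩ := by
      rw [hI, resO_co]
      exact ⟨res J hWU t, rfl⟩
    have hxs : x ∈ (I.support : Set X) := hsupp.ge hxV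
    rw [SetLike.mem_coe, Scheme.IdealSheafData.mem_support_iff_of_mem (U := ⟨W, hW⟩) hxW,
      Scheme.mem_zeroLocus_iff] at hxs
    refine hxs _ hmem ?_
    rw [show X.basicOpen (resO X hWU (co i U t)) = W ⊓ X.basicOpen (co i U t) from X.basicOpen_res _ _]
    exact ⟨hxW, hx⟩
  haveI : IsIso ((Scheme.Modules.restrictFunctor V.ι).map i) := by
    refine W7Hull.isIso_restrict_of_bijective i V fun x hx => ⟨W7Hull.st_injective i x, ?_⟩
    intro z
    obtain ⟨U, hU, c, rfl⟩ := TopCat.Presheaf.exists_germ_eq (Coh.structureModule X).presheaf z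
    obtain ⟨W, hW, hxW, hWU₀⟩ := exists_isAffineOpen_mem_and_subset (U := U) hU
    have hWU : W ≤ U := hWU₀
    have hxs : x ∉ (I.support : Set X) := fun h => hsupp.le h hx
    rw [SetLike.mem_coe, Scheme.IdealSheafData.mem_support_iff_of_mem (U := ⟨W, hW⟩) hxW,
      Scheme.mem_zeroLocus_iff] at hxs
    push Not at hxs
    obtain ⟨a, ha, hxa⟩ := hxs
    rw [hI] at ha
    obtain ⟨b, rfl⟩ := ha
    have hle : X.basicOpen (co i W b) ≤ W := X.basicOpen_le _
    obtain ⟨v, hv⟩ := QC.isUnit_resO_basicOpen hW (co i W b)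
    refine ⟨J.presheaf.germ (X.basicOpen (co i W b)) x hxa
      ((resO X (hle.trans hWU) c * (↑v⁻¹ : Γ(X, X.basicOpen (co i W b)))) • res J hle b), ?_⟩
    rw [W7Hull.st_germ]
    have h5 : co i (X.basicOpen (co i W b))
        ((resO X (hle.trans hWU) c * (↑v⁻¹ : Γ(X, X.basicOpen (co i W b)))) • res J hle b) =
        resO X (hle.trans hWU) c := by
      rw [co_smul, ← resO_co, show resO X hle (co i W b) = (v : Γ(X, X.basicOpen (co i W b))) from hv.symm,
        mul_assoc, v.inv_mul, mul_one]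
    exact (congrArg _ h5).trans (CohBig.germ_res' (Coh.structureModule X) (hle.trans hWU) hxa c)
  let ru : Coh.structureModule (V : Scheme.{u}) ≅ (Coh.structureModule X).restrict V.ι :=
    (Scheme.Modules.restrictUnitIso V.ι).symm
  obtain ⟨F, ι₂, σ₂, hι₂, hFq, hiso₂, hσ₂⟩ := W7Hull.exists_extend_hom hF₁q hJq V
    (e₁.hom ≫ σV ≫ ru.hom ≫ inv ((Scheme.Modules.restrictFunctor V.ι).map i))
  haveI := hι₂
  haveI := hiso₂
  let eF : F.restrict V.ι ≅ N := asIso ((Scheme.Modules.restrictFunctor V.ι).map ι₂) ≪≫ e₁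
  have hcomp : (Scheme.Modules.restrictFunctor V.ι).map (σ₂ ≫ i) = eF.hom ≫ σV ≫ ru.hom := by
    rw [Functor.map_comp, hσ₂, Category.assoc, Category.assoc, Category.assoc, Category.assoc,
      IsIso.inv_hom_id, Category.comp_id]
    simp only [eF, Iso.trans_hom, asIso_hom, Category.assoc]
  have hco : ∀ (W : (V : Scheme.{u}).Opens) (t : Γ(F, V.ι ''ᵁ W)),
      co (σ₂ ≫ i) (V.ι ''ᵁ W) t = (V.ι.appIso W).inv (co σV W (eF.hom.app W t)) := fun W t =>
    congrArg (fun α : F.restrict V.ι ⟶ (Coh.structureModule X).restrict V.ι => α.app W t) hcomp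
  refine ⟨F, σ₂ ≫ i, QC.isCoh_of_mono ι₂ ⟨hF₁q, hF₁t⟩ hFq, isInvertible_congr eF.symm hN,
    ⟨PicGrp.tensorModIso eF (Iso.refl L) ≪≫ e⟩, fun U t x hx => ?_, ?_⟩
  · have hxV : x ∈ V := hvan U (σ₂.app U t) hx
    have hxU : x ∈ U := X.basicOpen_le _ hx
    let W : (V : Scheme.{u}).Opens := V.ι ⁻¹ᵁ U
    have hle : V.ι ''ᵁ W ≤ U := V.ι.image_preimage_le U
    have hxW : x ∈ V.ι ''ᵁ W := ⟨⟨x, hxV⟩, hxU, rfl⟩
    have h1 : x ∈ X.basicOpen (resO X hle (co (σ₂ ≫ i) U t)) := by
      rw [show X.basicOpen (resO X hle (co (σ₂ ≫ i) U t)) =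
        (V.ι ''ᵁ W) ⊓ X.basicOpen (co (σ₂ ≫ i) U t) from X.basicOpen_res _ _]
      exact ⟨hxW, hx⟩
    rw [resO_co, hco, ← Scheme.image_basicOpen] at h1
    exact V.ι.image_mono (hσV W _) h1
  · refine ⟨eF.inv.app (CohB1.genLocus L s) n₁, ?_⟩
    rw [hco]
    have h6 : eF.hom.app (CohB1.genLocus L s) (eF.inv.app (CohB1.genLocus L s) n₁) = n₁ :=
      congrArg (fun α : N ⟶ N => α.app _ n₁) eF.inv_hom_id
    rw [h6, hn₁, map_one]

end Groth.Agent.AmpleNbhd
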