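import Groth.Agent.AmpleNbhd.Modification
import Groth.Agent.AmpleNbhd.BiratNbhd
import Groth.Agent.AmpleNbhd.Cosection

/-!
Almost ample families on separated schemes of finite type over a Noetherian ring.
-/

set_option autoImplicit false
set_option backward.isDefEq.respectTransparency false
set_option linter.style.haveILetI false

universe u

open CategoryTheory CategoryTheory.Limits AlgebraicGeometry TopologicalSpace

noncomputable section

namespace Groth.Agent.AmpleNbhd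

/-- An inverse of the pullback restricts to an inverse over an open. -/
theorem nonempty_pull_inverse {X X' : Scheme.{u}} (f : X' ⟶ X) (V : X.Opens) (L' : X'.Modules)
    {F : X.Modules} {L : (V : Scheme.{u}).Modules} {a b : ℕ}
    (e : (Scheme.Modules.pullback (f ∣_ V)).obj L ≅ (CohB1.tensorPow L' a).restrict (f ⁻¹ᵁ V).ι)
    (t : CohB1.tensorMod (F.restrict V.ι) (CohB1.tensorPow L b) ≅ Coh.structureModule (V : Scheme.{u})) :
    Nonempty (CohB1.tensorMod (((Scheme.Modules.pullback f).obj F).restrict (f ⁻¹ᵁ V).ι)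
      ((CohB1.tensorPow L' (a * b)).restrict (f ⁻¹ᵁ V).ι) ≅
        Coh.structureModule (f ⁻¹ᵁ V : Scheme.{u})) := by
  obtain ⟨i₁⟩ := TMul.nonempty_pullPowIso (f ∣_ V) L b
  obtain ⟨i₂⟩ := TMul.nonempty_powCongr e b
  obtain ⟨i₃⟩ := TMul.nonempty_restrictPowIso (f ⁻¹ᵁ V).ι (CohB1.tensorPow L' a) b
  obtain ⟨i₄⟩ := TMul.nonempty_powMulIso L' a b
  obtain ⟨i₅⟩ := TMul.nonempty_pullTensorIso (f ∣_ V) (F.restrict V.ι) (CohB1.tensorPow L b)
  refine ⟨PicGrp.tensorModIso ((Groth.Agent.DerPerf.pullRestrictIso f V).app F)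
    ((Scheme.Modules.restrictFunctor _).mapIso i₄.symm ≪≫ i₃.symm ≪≫ i₂.symm ≪≫ i₁) ≪≫ i₅ ≪≫
    (Scheme.Modules.pullback (f ∣_ V)).mapIso t ≪≫ PicLoc.pullbackStructureIso (f ∣_ V)⟩

/-- The member of an almost ample family at a point. -/
theorem exists_member (A : Type u) [CommRing A] [IsNoetherianRing A] {X : Scheme.{u}}
    (p : X ⟶ Spec (CommRingCat.of A)) [IsSeparated p] [LocallyOfFiniteType p] [QuasiCompact p] (x : X) :
    ∃ (V : X.Opens) (F : X.Modules) (D : X.Opens) (σ : F ⟶ Coh.structureModule X), x ∈ D ∧ D ≤ V ∧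
      IsAffineOpen D ∧ Coh.IsCoh F ∧
      (∀ y : X, ringKrullDim (X.presheaf.stalk y) ≤ 1 → y ∈ V) ∧ PicF.IsInvertible (F.restrict V.ι) ∧
      (∃ (X' : Scheme.{u}) (f : X' ⟶ X) (W : X.Opens) (L' : X'.Modules),
        IsProper f ∧ Dense (W : Set X) ∧ Dense ((f ⁻¹ᵁ W : X'.Opens) : Set X') ∧ IsIso (f ∣_ W) ∧
        CohB1.IsAmple L' ∧
        Nonempty (CohB1.tensorMod (((Scheme.Modules.pullback f).obj F).restrict (f ⁻¹ᵁ V).ι)
          (L'.restrict (f ⁻¹ᵁ V).ι) ≅ Coh.structureModule (f ⁻¹ᵁ V : Scheme.{u}))) ∧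
      (∀ (U : X.Opens) (t : Γ(F, U)), X.basicOpen (co σ U t) ≤ D) ∧ ∃ t : Γ(F, D), co σ D t = 1 := by
  haveI : IsLocallyNoetherian X := LocallyOfFiniteType.isLocallyNoetherian p
  haveI : CompactSpace X := QuasiCompact.compactSpace_of_compactSpace p
  haveI : IsNoetherian X := {}
  obtain ⟨W, X', f, L', hxW, hWd, hWd', hf, hiso, hL'⟩ := exists_modification A p x
  haveI := hf
  haveI := hiso
  haveI : IsLocallyNoetherian X' := LocallyOfFiniteType.isLocallyNoetherian f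
  haveI : CompactSpace X' := hL'.2.1
  haveI : IsNoetherian X' := {}
  obtain ⟨V, hWV, -, hcod, -, L, n, hn, hL, ⟨e⟩⟩ := exists_birat_nbhd f hL' W hWd hWd'
  obtain ⟨a, s, hxs, hs⟩ := hL.2.2 ⟨x, hWV hxW⟩
  obtain ⟨F, σ, hF, hFV, ⟨t⟩, hσ, hσ1⟩ := exists_cosection V (TMul.isInvertible_tensorPow hL.1 (a + 1)) s
  refine ⟨V, F, V.ι ''ᵁ CohB1.genLocus _ s, σ, ⟨_, hxs, rfl⟩, ?_, hs.image_of_isOpenImmersion V.ι, hF,
    hcod, hFV, ⟨X', f, W, CohB1.tensorPow L' (n * (a + 1)), hf, hWd, hWd', hiso,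
      TMul.isAmple_tensorPow hL' (Nat.mul_pos hn (Nat.succ_pos a)), nonempty_pull_inverse f V L' e t⟩, hσ, hσ1⟩
  rintro y ⟨z, -, rfl⟩
  exact z.2

/-- Almost ample families exist. -/
theorem exists_almostAmpleFamily (A : Type u) [CommRing A] [IsNoetherianRing A] (X : Scheme.{u})
    (p : X ⟶ Spec (CommRingCat.of A)) [IsSeparated p] [LocallyOfFiniteType p] [QuasiCompact p] :
    ∃ (ι : Type u) (F : ι → X.Modules) (V : ι → X.Opens),
      (∀ i, Coh.IsCoh (F i) ∧ (∀ y : X, ringKrullDim (X.presheaf.stalk y) ≤ 1 → y ∈ V i) ∧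
        PicF.IsInvertible ((F i).restrict (V i).ι)) ∧
      (⨆ i, V i) = ⊤ ∧
      (∀ i, ∃ (X' : Scheme.{u}) (f : X' ⟶ X) (W : X.Opens) (L' : X'.Modules),
        IsProper f ∧ Dense (W : Set X) ∧ Dense ((f ⁻¹ᵁ W : X'.Opens) : Set X') ∧ IsIso (f ∣_ W) ∧
        CohB1.IsAmple L' ∧
        Nonempty (CohB1.tensorMod (((Scheme.Modules.pullback f).obj (F i)).restrict (f ⁻¹ᵁ (V i)).ι)
          (L'.restrict (f ⁻¹ᵁ (V i)).ι) ≅ Coh.structureModule (f ⁻¹ᵁ (V i) : Scheme.{u}))) ∧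
      (∀ M : X.Modules, Coh.IsCoh M → ∃ (m : ℕ) (j : Fin m → ι) (n : Fin m → ℕ)
        (π : (∐ fun t : Fin m => CohB1.tensorPow (F (j t)) (n t + 1)) ⟶ M), Epi π) := by
  classical
  haveI : IsLocallyNoetherian X := LocallyOfFiniteType.isLocallyNoetherian p
  haveI : CompactSpace X := QuasiCompact.compactSpace_of_compactSpace p
  haveI : IsNoetherian X := {}
  choose V F D σ hxD hDV hD hF hcod hFV hii hσ hσ1 using fun x : X => exists_member A p x
  obtain ⟨S, hS⟩ := isCompact_univ.elim_finite_subcover (fun x : X => (D x : Set X)) (fun x => (D x).2)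
    fun x _ => Set.mem_iUnion.2 ⟨x, hxD x⟩
  have hcov : ∀ y : X, ∃ i : S, y ∈ D i.1 := fun y => by
    obtain ⟨z, hz, hy⟩ := Set.mem_iUnion₂.1 (hS (Set.mem_univ y))
    exact ⟨⟨z, hz⟩, hy⟩
  refine ⟨S, fun i => F i.1, fun i => V i.1, fun i => ⟨hF i.1, hcod i.1, hFV i.1⟩,
    top_le_iff.1 fun y _ => ?_, fun i => hii i.1, fun M hM => ?_⟩
  · obtain ⟨i, hi⟩ := hcov y
    exact Opens.mem_iSup.2 ⟨i, hDV _ hi⟩
  choose e he using fun i : S => hσ1 i.1
  choose T k ψ hψ using fun i : S =>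
    exists_powers_onto (σ i.1) (hF i.1) hM (D i.1) (hD i.1) (hσ i.1) (e i) (he i)
  let J := Σ i : S, T i
  let ee : Fin (Fintype.card J) ≃ J := (Fintype.equivFin J).symm
  let G : Fin (Fintype.card J) → X.Modules :=
    fun t => CohB1.tensorPow (F (ee t).1.1) (k (ee t).1 (ee t).2 + 1)
  let π : (∐ G) ⟶ M := Sigma.desc fun t => ψ (ee t).1 (ee t).2
  refine ⟨Fintype.card J, fun t => (ee t).1, fun t => k (ee t).1 (ee t).2, π,
    W7Hull.epi_of_stalk fun y => ?_⟩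
  obtain ⟨i, hi⟩ := hcov y
  refine hψ i _ π (fun s => ?_) y hi
  have key : ∀ (q : J), ∃ j : CohB1.tensorPow (F q.1.1) (k q.1 q.2 + 1) ⟶ ∐ G, j ≫ π = ψ q.1 q.2 := by
    intro q
    obtain ⟨t, rfl⟩ := ee.surjective q
    exact ⟨Sigma.ι G t, Sigma.ι_desc _ _⟩
  exact key ⟨i, s⟩

end Groth.Agent.AmpleNbhd
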