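import Groth.Agent.AmpleNbhd.Glue
import Groth.Agent.CohBound.Pieces
import Groth.Agent.CohBig.FibreChains
import Groth.Agent.ResDesc.Divisorial

/-!
Every point of a Noetherian scheme has a neighbourhood containing the points of codimension at most
one and carrying an ample family.
-/

set_option autoImplicit false
set_option backward.isDefEq.respectTransparency false
set_option linter.style.haveILetI false

universe u

open CategoryTheory CategoryTheory.Limits AlgebraicGeometry TopologicalSpace Opposite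

noncomputable section

namespace Groth.Agent.AmpleNbhd

variable {X : Scheme.{u}}

theorem mem_basicOpen_iff_notMem {U : X.Opens} (hU : IsAffineOpen U) {x : X} (hx : x ∈ U) (c : Γ(X, U)) :
    x ∈ X.basicOpen c ↔ c ∉ (hU.primeIdealOf ⟨x, hx⟩).asIdeal := by
  rw [← PrimeSpectrum.mem_basicOpen, ← hU.fromSpec_preimage_basicOpen]
  show x ∈ X.basicOpen c ↔ hU.fromSpec _ ∈ X.basicOpen c
  rw [hU.fromSpec_primeIdealOf ⟨x, hx⟩]

/-- A basic open containing finitely many points and contained in a given open. -/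
theorem exists_basicOpen_finite_le {U : X.Opens} (hU : IsAffineOpen U) (O : X.Opens) {F : Set X}
    (hF : F.Finite) (hFU : F ⊆ U) (hFO : F ⊆ O) : ∃ c : Γ(X, U), X.basicOpen c ≤ O ∧ F ⊆ X.basicOpen c := by
  classical
  let J : Ideal Γ(X, U) :=
    { carrier := {c | X.basicOpen c ≤ O}
      add_mem' := fun {c d} hc hd => (X.basicOpen_add_le c d).trans (sup_le hc hd)
      zero_mem' := by simp
      smul_mem' := fun r c hc => by
        show X.basicOpen (r * c) ≤ _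
        rw [Scheme.basicOpen_mul]; exact inf_le_right.trans hc }
  haveI := hF.to_subtype
  by_contra hne
  push Not at hne
  have hsub : (J : Set Γ(X, U)) ⊆
      ⋃ x ∈ (Set.univ : Set F), ((hU.primeIdealOf ⟨x.1, hFU x.2⟩).asIdeal : Set Γ(X, U)) := by
    intro c hc
    obtain ⟨x, hx, hxc⟩ := Set.not_subset.1 (hne c hc)
    exact Set.mem_biUnion (x := (⟨x, hx⟩ : F)) trivial
      (by_contra fun h => hxc ((mem_basicOpen_iff_notMem hU (hFU hx) c).2 h))
  rcases isEmpty_or_nonempty F with he | ⟨⟨x₀⟩⟩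
  · exact hne 0 (by simp) fun x hx => (he.false ⟨x, hx⟩).elim
  obtain ⟨x, -, hx⟩ := (Ideal.subset_union_prime_finite Set.finite_univ x₀ x₀
    fun i _ _ _ => (hU.primeIdealOf ⟨i.1, hFU i.2⟩).isPrime).1 hsub
  obtain ⟨c, hc, hxc⟩ := hU.exists_basicOpen_le (V := O) ⟨x.1, hFO x.2⟩ (hFU x.2)
  exact (mem_basicOpen_iff_notMem hU (hFU x.2) c).1 hxc (hx hc)

variable [IsNoetherian X]

/-- A point outside a dense open whose proper generisations avoid a part of the open avoids its closure. -/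
theorem notMem_closure_of_gen {U : X.Opens} {η : X} (hη : η ∉ U) {S : Set X} (hS : S ⊆ U)
    (hgen : ∀ g, g ⤳ η → g ≠ η → ∃ O : X.Opens, g ∈ O ∧ Disjoint (O : Set X) S) : η ∉ closure S := by
  intro hmem
  obtain ⟨Z, hZf, hZs, hZ⟩ := CohBound.exists_max_points (X := X) (B := closure S) isClosed_closure
  have hA : IsClosed (⋃ w ∈ Z \ {η}, closure ({w} : Set X)) :=
    (hZf.subset Set.sdiff_subset).isClosed_biUnion fun _ _ => isClosed_closure
  have hη' : η ∈ (⋃ w ∈ Z \ {η}, closure ({w} : Set X))ᶜ := fun h => by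
    simp only [Set.mem_iUnion] at h
    obtain ⟨w, ⟨hwZ, hwη⟩, hw⟩ := h
    obtain ⟨O, hwO, hd⟩ := hgen w (specializes_iff_mem_closure.2 hw) hwη
    obtain ⟨p, hpO, hpS⟩ := mem_closure_iff.1 (hZs hwZ) O O.2 hwO
    exact Set.disjoint_left.1 hd hpO hpS
  obtain ⟨p, hp, hpS⟩ := mem_closure_iff.1 hmem _ hA.isOpen_compl hη'
  obtain ⟨w, hwZ, hw⟩ := hZ p (subset_closure hpS)
  by_cases hwη : w = η
  · exact hη ((hwη ▸ hw).mem_open U.2 (hS hpS))
  · exact hp (Set.mem_biUnion (show w ∈ Z \ {η} from ⟨hwZ, hwη⟩) hw.mem_closure)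

/-- A generisation chain of length two forces dimension at least two. -/
theorem not_le_one_of_gen {x g w : X} (hg : g ⤳ x) (hgx : g ≠ x) (hw : w ⤳ g) (hwg : w ≠ g) :
    ¬ ringKrullDim (X.presheaf.stalk x) ≤ 1 := by
  rw [ringKrullDim_stalk_eq_coheight]
  intro h
  have h1 : x < g := lt_of_le_not_ge hg fun h => hgx (hg.antisymm h).eq
  have h2 : g < w := lt_of_le_not_ge hw fun h => hwg (hw.antisymm h).eq
  have h3 : Order.coheight x ≤ 1 := WithBot.coe_le_coe.1 h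
  have h5 : Order.coheight g + 1 ≤ Order.coheight x := Order.coheight_add_one_le h1
  have h6 : Order.coheight w + 1 ≤ Order.coheight g := Order.coheight_add_one_le h2
  have h7 : (1 + 1 : ℕ∞) ≤ 1 := ((add_le_add ((le_add_self).trans h6) le_rfl).trans h5).trans h3
  exact absurd h7 (by decide)

/-- Neighbourhoods containing the codimension one points with an ample family. -/
theorem exists_nbhd (x : X) : ∃ V : X.Opens, x ∈ V ∧
    (∀ y : X, ringKrullDim (X.presheaf.stalk y) ≤ 1 → y ∈ V) ∧ MoreMor.HasAmpleFamily (V : Scheme.{u}) := by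
  classical
  obtain ⟨U, hU, hxU, hUd⟩ := ResDesc.exists_dense_affine x
  obtain ⟨Z, hZf, hZs, hZ⟩ := CohBound.exists_max_points (X := X) (B := (U : Set X)ᶜ) U.2.isClosed_compl
  obtain ⟨P, hPf, -, hP⟩ := CohBound.exists_max_points (X := X) (B := Set.univ) isClosed_univ
  have hgenU : ∀ η : X, ringKrullDim (X.presheaf.stalk η) ≤ 1 → ∀ g, g ⤳ η → g ≠ η → g ∈ U ∧ g ∈ P := by
    intro η hη g hg hgη
    have hmax : ∀ w, w ⤳ g → w = g := fun w hw => by_contra fun hne => not_le_one_of_gen hg hgη hw hne hη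
    obtain ⟨w, hwP, hw⟩ := hP g (Set.mem_univ g)
    exact ⟨CohBig.mem_of_dense_of_max hmax U hUd, hmax w hw ▸ hwP⟩
  let T := {η : X // η ∈ Z ∧ ringKrullDim (X.presheaf.stalk η) ≤ 1}
  have hTz : ∀ (η : T) {ζ : X}, ζ ∈ Z → ζ ⤳ η.1 → ζ = η.1 := fun η ζ hζ hs =>
    by_contra fun hne => hZs hζ (hgenU η.1 η.2.2 ζ hs hne).1
  have data : ∀ η : T, ∃ (W₀ W : X.Opens) (a : Γ(X, W)) (α : Γ(X, U)), IsAffineOpen W₀ ∧ IsAffineOpen W ∧
      η.1 ∈ W ∧ W ≤ W₀ ∧ X.basicOpen α ≤ W₀ ∧ U ⊓ W = X.basicOpen a ∧ U ⊓ W ≤ X.basicOpen α ∧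
      ∀ ζ ∈ Z, ζ ≠ η.1 → ∀ p ∈ W, ¬ ζ ⤳ p := by
    intro η
    obtain ⟨W₀, hW₀, hηW₀, -⟩ := exists_isAffineOpen_mem_and_subset (x := η.1) (U := (⊤ : X.Opens)) trivial
    let N : Set X := {g | g ⤳ η.1 ∧ g ≠ η.1}
    have hN : N.Finite := hPf.subset fun g hg => (hgenU η.1 η.2.2 g hg.1 hg.2).2
    have hNW : N ⊆ W₀ := fun g hg => hg.1.mem_open W₀.2 hηW₀
    have hNU : N ⊆ U := fun g hg => (hgenU η.1 η.2.2 g hg.1 hg.2).1
    let Cη : X.Opens := ⟨(closure {η.1})ᶜ, isClosed_closure.isOpen_compl⟩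
    obtain ⟨a, ha, haN⟩ := exists_basicOpen_finite_le hW₀ Cη hN hNW fun g hg hg' =>
      hg.2 (hg.1.antisymm (specializes_iff_mem_closure.2 hg')).eq
    obtain ⟨α, hα, hαN⟩ := exists_basicOpen_finite_le hU W₀ hN hNU hNW
    let S : Set X := (U : Set X) \ X.basicOpen α ∪ ((U : Set X) ∩ ((W₀ : Set X) \ X.basicOpen a))
    have hηU : η.1 ∉ U := hZs η.2.1
    have hηS : η.1 ∉ closure S := notMem_closure_of_gen hηU
      (Set.union_subset Set.sdiff_subset Set.inter_subset_left) fun g hg hgη =>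
        ⟨X.basicOpen α ⊓ X.basicOpen a, ⟨hαN ⟨hg, hgη⟩, haN ⟨hg, hgη⟩⟩,
          Set.disjoint_left.2 fun p hp hpS => hpS.elim (fun h => h.2 hp.1) fun h => h.2.2 hp.2⟩
    have hcl : IsClosed ((⋃ ζ ∈ Z \ {η.1}, closure ({ζ} : Set X)) ∪ closure S) :=
      ((hZf.subset Set.sdiff_subset).isClosed_biUnion fun _ _ => isClosed_closure).union isClosed_closure
    let O : X.Opens := ⟨((⋃ ζ ∈ Z \ {η.1}, closure ({ζ} : Set X)) ∪ closure S)ᶜ, hcl.isOpen_compl⟩
    have hηO : η.1 ∈ O := by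
      intro h
      rcases h with h | h
      · simp only [Set.mem_iUnion] at h
        obtain ⟨ζ, ⟨hζ, hζη⟩, h⟩ := h
        exact hζη (hTz η hζ (specializes_iff_mem_closure.2 h))
      · exact hηS h
    obtain ⟨h₀, hh₀, hηh⟩ := hW₀.exists_basicOpen_le (V := O) ⟨η.1, hηO⟩ hηW₀
    have hle : X.basicOpen h₀ ≤ W₀ := X.basicOpen_le h₀
    have hav : ∀ ζ ∈ Z, ζ ≠ η.1 → ∀ p ∈ X.basicOpen h₀, ¬ ζ ⤳ p := fun ζ hζ hne p hp hs =>
      hh₀ hp (Or.inl (Set.mem_biUnion (show ζ ∈ Z \ {η.1} from ⟨hζ, hne⟩) hs.mem_closure))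
    refine ⟨W₀, X.basicOpen h₀, QC.resO X hle a, α, hW₀, hW₀.basicOpen h₀, hηh, hle, hα, ?_, ?_, hav⟩
    · have hres : X.basicOpen (QC.resO X hle a) = X.basicOpen h₀ ⊓ X.basicOpen a := X.basicOpen_res a _
      rw [hres]
      ext p
      constructor
      · intro hp
        refine ⟨hp.2, by_contra fun hpa => ?_⟩
        exact hh₀ hp.2 (Or.inr (subset_closure (Or.inr ⟨hp.1, hle hp.2, hpa⟩)))
      · intro hp
        refine ⟨?_, hp.1⟩
        by_contra hpU
        obtain ⟨ζ, hζ, hs⟩ := hZ p hpU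
        by_cases hne : ζ = η.1
        · exact ha hp.2 ((hne ▸ hs).mem_closure)
        · exact hav ζ hζ hne p hp.1 hs
    · intro p hp
      by_contra hpα
      exact hh₀ hp.2 (Or.inr (subset_closure (Or.inl ⟨hp.1, hpα⟩)))
  choose W₀ W a α hW₀ hW hηW hWW₀ hαW₀ ha hα hav using data
  haveI : Finite T := (hZf.subset fun η h => h.1 : Set.Finite {η : X | η ∈ Z ∧ ringKrullDim (X.presheaf.stalk η) ≤ 1}).to_subtype
  let V : X.Opens := U ⊔ ⨆ k, W k
  have hUV : U ≤ V := le_sup_left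
  have hWV : ∀ k, W k ≤ V := fun k => (le_iSup W k).trans le_sup_right
  refine ⟨V, hUV hxU, fun y hy => ?_, ?_⟩
  · by_cases hyU : y ∈ U
    · exact hUV hyU
    · obtain ⟨ζ, hζ, hs⟩ := hZ y hyU
      have hζy : ζ = y := by_contra fun hne => hZs hζ (hgenU y hy ζ hs hne).1
      exact hWV ⟨y, hζy ▸ hζ, hy⟩ (hηW ⟨y, hζy ▸ hζ, hy⟩)
  haveI : IsNoetherian (V : Scheme.{u}) :=
    { toIsLocallyNoetherian := LocallyOfFiniteType.isLocallyNoetherian V.ι
      toCompactSpace := isCompact_iff_compactSpace.1 (NoetherianSpace.isCompact _) }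
  have hpre : ∀ {O : X.Opens}, IsAffineOpen O → O ≤ V → IsAffineOpen (V.ι ⁻¹ᵁ O) := fun {O} hO hle => by
    rw [← V.ι.isAffineOpen_iff_of_isOpenImmersion, Scheme.Hom.image_preimage_eq_opensRange_inf,
      Scheme.Opens.opensRange_ι, inf_eq_right.2 hle]
    exact hO
  have hbo : ∀ (O : X.Opens) (f : Γ(X, O)),
      V.toScheme.basicOpen (V.ι.app O f) = V.ι ⁻¹ᵁ X.basicOpen f := fun O f =>
    (Scheme.preimage_basicOpen V.ι f).symm
  refine hasAmpleFamily (V.ι ⁻¹ᵁ U) (hpre hU hUV) (fun k => V.ι ⁻¹ᵁ W k) (fun k => hpre (hW k) (hWV k))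
    (fun y => ?_) (fun k l hkl => ?_) (fun k => V.ι.app (W k) (a k)) (fun k => ?_)
    (fun k => V.ι.app U (α k)) (fun k => ?_) fun k v hv => ?_
  · rcases Opens.mem_sup.1 (show V.ι y ∈ U ⊔ ⨆ k, W k from y.2) with h | h
    · exact Or.inl h
    · obtain ⟨k, hk⟩ := Opens.mem_iSup.1 h
      exact Or.inr ⟨k, hk⟩
  · intro y hy
    show V.ι y ∈ U
    by_contra hyU
    obtain ⟨ζ, hζ, hs⟩ := hZ _ hyU
    by_cases hne : ζ = k.1
    · exact hav l ζ hζ (fun e => hkl (Subtype.ext (hne.symm.trans e))) _ hy.2 hs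
    · exact hav k ζ hζ hne _ hy.1 hs
  · rw [hbo, ← ha k]
    rfl
  · rw [hbo]
    exact fun y hy => hα k hy
  · have hO : X.basicOpen (α k) ⊔ W k ≤ W₀ k := sup_le (hαW₀ k) (hWW₀ k)
    obtain ⟨g, hg, hvg⟩ := (hW₀ k).exists_basicOpen_le (V := X.basicOpen (α k) ⊔ W k)
      ⟨V.ι v, Or.inr hv⟩ (hWW₀ k hv)
    have e : V.toScheme.basicOpen (V.ι.app U (α k)) ⊔ V.ι ⁻¹ᵁ W k = V.ι ⁻¹ᵁ (X.basicOpen (α k) ⊔ W k) := by
      rw [hbo]; rfl
    rw [e]
    have hgV : X.basicOpen g ≤ V := hg.trans (sup_le ((X.basicOpen_le _).trans hUV) (hWV k))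
    refine ⟨V.ι.app _ (QC.resO X hO g), ?_⟩
    rw [hbo, show X.basicOpen (QC.resO X hO g) = _ from X.basicOpen_res g _, inf_eq_right.2 hg]
    exact ⟨hvg, hpre ((hW₀ k).basicOpen g) hgV⟩

end Groth.Agent.AmpleNbhd
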