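import Groth.Agent.S2313
import Groth.Agent.W7Hull.Avoid
import Groth.Agent.QC.Coherent
import Groth.Agent.CohBig.Maps
import Groth.Agent.TMul.Assoc

/-!
Sections over an affine open cut out by a cosection come from powers of its source.
-/

set_option autoImplicit false
set_option backward.isDefEq.respectTransparency false
set_option linter.style.haveILetI false

universe u

open CategoryTheory CategoryTheory.Limits AlgebraicGeometry TopologicalSpace Opposite
open Groth.Agent.QC (res resO res_res res_smul resO_resO app_res section_eq_of_locally)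
open Groth.Agent.W7Hull (st st_germ)
open TMul (tm)

noncomputable section

namespace Groth.Agent.AmpleNbhd

variable {X : Scheme.{u}} {F M P : X.Modules}

/-- The function given by a cosection. -/
def co (a : P ⟶ Coh.structureModule X) (U : X.Opens) (p : Γ(P, U)) : Γ(X, U) := a.app U p

lemma co_add (a : P ⟶ Coh.structureModule X) (U : X.Opens) (p q : Γ(P, U)) :
    co a U (p + q) = co a U p + co a U q := map_add (a.app U).hom p q

lemma co_zero (a : P ⟶ Coh.structureModule X) (U : X.Opens) : co a U (0 : Γ(P, U)) = 0 :=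
  map_zero (a.app U).hom

lemma co_smul (a : P ⟶ Coh.structureModule X) (U : X.Opens) (r : Γ(X, U)) (p : Γ(P, U)) :
    co a U (r • p) = r * co a U p := TMul.app_smul a r p

lemma resO_co (a : P ⟶ Coh.structureModule X) {V U : X.Opens} (h : V ≤ U) (p : Γ(P, U)) :
    resO X h (co a U p) = co a V (res P h p) := app_res a h p

/-- The bilinear maps of `mulBy`. -/
def mulB (a : P ⟶ Coh.structureModule X) (M : X.Modules) (U : X.Opens) :
    Γ(P, U) →ₗ[Γ(X, U)] Γ(M, U) →ₗ[Γ(X, U)] Γ(M, U) :=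
  LinearMap.mk₂ Γ(X, U) (fun p m => co a U p • m)
    (fun p p' m => by rw [co_add, add_smul])
    (fun r p m => by rw [co_smul, mul_smul])
    (fun p m m' => smul_add _ m m') fun r p m => smul_comm _ r m

lemma res_mulB (a : P ⟶ Coh.structureModule X) {V U : X.Opens} (h : V ≤ U) (p : Γ(P, U))
    (m : Γ(M, U)) : res M h (mulB a M U p m) = mulB a M V (res P h p) (res M h m) := by
  show res M h (co a U p • m) = co a V (res P h p) • res M h m
  rw [res_smul, resO_co]

/-- Multiplication by a cosection. -/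
def mulBy (a : P ⟶ Coh.structureModule X) (M : X.Modules) : CohB1.tensorMod P M ⟶ M :=
  TMul.lift (mulB a M) (res_mulB a)

lemma mulBy_tm (a : P ⟶ Coh.structureModule X) {U : X.Opens} (p : Γ(P, U)) (m : Γ(M, U)) :
    (mulBy a M).app U (tm p m) = co a U p • m :=
  TMul.lift_tm (mulB a M) (res_mulB a) p m

/-- Powers of a cosection. -/
def sigPow (σ : F ⟶ Coh.structureModule X) : ∀ n, CohB1.tensorPow F n ⟶ Coh.structureModule X
  | 0 => 𝟙 _
  | n + 1 => mulBy (sigPow σ n) F ≫ σ

/-- A cosection with values vanishing outside an open, on a quotient killed by powers of the ideal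
of its complement. -/
theorem sigPow_kill (σ : F ⟶ Coh.structureModule X) {C : X.Modules} (J : X.IdealSheafData) (n : ℕ)
    (hJ : ∀ (W : X.affineOpens) (t : Γ(F, W.1)), (co σ W.1 t) ∈ J.ideal W)
    (hC : ∀ (W : X.affineOpens) (a : Γ(X, W.1)), a ∈ J.ideal W ^ n → ∀ c : Γ(C, W.1), a • c = 0) :
    ∀ (j : ℕ), j ≤ n → ∀ (W : X.affineOpens) (p : Γ(CohB1.tensorPow F j, W.1)) (a : Γ(X, W.1)),
      a ∈ J.ideal W ^ (n - j) → ∀ c : Γ(C, W.1),
        ((co (sigPow σ j) W.1 p) * a) • c = 0 := by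
  intro j
  induction j with
  | zero =>
    intro _ W p a ha c
    exact hC W _ (Ideal.mul_mem_left _ _ ha) c
  | succ j ih =>
    intro hj W p a ha c
    refine section_eq_of_locally fun x hx => ?_
    obtain ⟨V, hV, q, hxV, hq⟩ := TMul.exists_tt p hx
    obtain ⟨W', hW', hxW', hWV₀⟩ := exists_isAffineOpen_mem_and_subset (U := V) hxV
    have hWV : W' ≤ V := hWV₀
    have hWW : W' ≤ W.1 := le_trans hWV hV
    refine ⟨W', hWW, hxW', ?_⟩
    have ha' : resO X hWW a ∈ J.ideal ⟨W', hW'⟩ ^ (n - (j + 1)) := by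
      rw [← J.map_ideal (U := ⟨W', hW'⟩) (V := W) hWW, ← Ideal.map_pow]
      exact Ideal.mem_map_of_mem _ ha
    have e1 : res C hWW (((co (sigPow σ (j + 1)) W.1 p) * a) • c) =
        ((co (sigPow σ (j + 1)) W' (res (CohB1.tensorMod (CohB1.tensorPow F j) F) hWV (TMul.tt _ _ V q))) * resO X hWW a) •
          res C hWW c := by
      have hq' : res (CohB1.tensorPow F (j + 1)) hWW p =
          res (CohB1.tensorMod (CohB1.tensorPow F j) F) hWV (TMul.tt _ _ V q) :=
        ((congrArg (res (CohB1.tensorMod (CohB1.tensorPow F j) F) hWV) hq).trans (res_res _ _ _ _)).symm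
      rw [res_smul, map_mul, resO_co, hq']
    rw [e1, map_zero, TMul.res_tt]
    generalize TMul.resT _ _ hWV q = r
    induction r using TensorProduct.induction_on with
    | zero =>
      rw [map_zero, co_zero, zero_mul, zero_smul]
    | tmul m t =>
      have e2 : (co (sigPow σ (j + 1)) W' (tm m t)) =
          (co (sigPow σ j) W' m) * (co σ W' t) := by
        show (co σ W' ((mulBy (sigPow σ j) F).app W' (tm m t))) = _
        rw [mulBy_tm, co_smul]
      rw [show TMul.tt _ _ W' (m ⊗ₜ t) = tm m t from rfl, e2, mul_assoc]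
      refine ih (Nat.le_of_succ_le hj) ⟨W', hW'⟩ m _ ?_ _
      have h3 : n - j = (n - (j + 1)) + 1 := by omega
      rw [h3, pow_succ']
      exact Ideal.mul_mem_mul (hJ ⟨W', hW'⟩ t) ha'
    | add r s hr hs =>
      rw [map_add, co_add, add_mul, add_smul, hr, hs, add_zero]

variable [IsNoetherian X]

/-- Sections over the open cut out by a cosection are images of sections of powers. -/
theorem exists_pow_hom (σ : F ⟶ Coh.structureModule X) (hF : Coh.IsCoh F) (hM : Coh.IsCoh M)
    (D : X.Opens) (hσ : ∀ (U : X.Opens) (t : Γ(F, U)), X.basicOpen (co σ U t) ≤ D)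
    (e : Γ(F, D)) (he : (co σ D e) = 1) (m : Γ(M, D)) :
    ∃ (n : ℕ) (ψ : CohB1.tensorPow F (n + 1) ⟶ M) (t : Γ(CohB1.tensorPow F (n + 1), D)),
      ψ.app D t = m := by
  have hle : ∀ W : (D : Scheme.{u}).Opens, D.ι ''ᵁ W ≤ D := by
    rintro W y ⟨z, -, rfl⟩
    exact z.2
  let φ : (Scheme.Modules.restrictFunctor D.ι).obj F ⟶ (Scheme.Modules.restrictFunctor D.ι).obj M :=
    ⟨PresheafOfModules.homMk
      { app := fun W => AddCommGrpCat.ofHom
          (AddMonoidHom.mk' (fun t : Γ(F, D.ι ''ᵁ W.unop) => co σ _ t • res M (hle W.unop) m) fun a b =>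
            (congrArg (fun z : Γ(X, D.ι ''ᵁ W.unop) => z • res M (hle W.unop) m)
              (co_add σ (D.ι ''ᵁ W.unop) a b)).trans (add_smul _ _ _))
        naturality := fun W W' i => by
          ext t
          change (co σ (D.ι ''ᵁ W'.unop) (res F (D.ι.image_mono i.unop.le) (show Γ(F, D.ι ''ᵁ W.unop) from t))) •
              res M (hle W'.unop) m =
            res M (D.ι.image_mono i.unop.le)
              ((co σ (D.ι ''ᵁ W.unop) t) • res M (hle W.unop) m)
          rw [res_smul, res_res, resO_co] }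
      fun W r t => (congrArg (fun z : Γ(X, D.ι ''ᵁ W.unop) => z • res M (hle W.unop) m)
        (co_smul σ (D.ι ''ᵁ W.unop) (show Γ(X, D.ι ''ᵁ W.unop) from (D.ι.appIso W.unop).inv r)
          (show Γ(F, D.ι ''ᵁ W.unop) from t))).trans
        (mul_smul _ _ (res M (hle W.unop) m))⟩
  obtain ⟨G, ι, φ', hι, hG, hiso, hφ'⟩ := W7Hull.exists_extend_hom hF.1 hM.1 D φ
  haveI := hι
  haveI := hiso
  let J := Scheme.IdealSheafData.vanishingIdeal (⟨(D : Set X)ᶜ, D.2.isClosed_compl⟩ : Closeds X)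
  have hJ : (J.support : Set X) = (D : Set X)ᶜ := by
    rw [Scheme.IdealSheafData.coe_support_vanishingIdeal]
    rfl
  have hsupp : CohB1.support (cokernel ι) ⊆ (J.support : Set X) := fun x hx => by
    rw [hJ]
    intro hxD
    exact Devissage.notMem_support_of_surjective _ (Devissage.cokSeq_shortExact ι) x
      (W7Hull.bijective_of_isIso_restrict ι D hxD).2 hx
  obtain ⟨n, hn⟩ := S2313.result X (cokernel ι) (QC.isCoh_cokernel hG hF ι) J hsupp
  have hmem : ∀ (W : X.affineOpens) (t : Γ(F, W.1)), (co σ W.1 t) ∈ J.ideal W := by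
    intro W t
    rw [Scheme.IdealSheafData.vanishingIdeal_ideal, PrimeSpectrum.mem_vanishingIdeal]
    intro q hq
    by_contra hqt
    have h1 : q ∈ W.2.fromSpec ⁻¹ᵁ X.basicOpen (co σ W.1 t) := by
      rw [W.2.fromSpec_preimage_basicOpen]
      exact hqt
    exact hq (hσ W.1 t h1)
  have h0 : mulBy (sigPow σ n) F ≫ cokernel.π ι = 0 := by
    refine TMul.hom_ext fun U p t => ?_
    show (cokernel.π ι).app U ((mulBy (sigPow σ n) F).app U (tm p t)) = 0
    rw [mulBy_tm, TMul.app_smul]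
    refine section_eq_of_locally fun x hx => ?_
    obtain ⟨W, hW, hxW, hWU₀⟩ := exists_isAffineOpen_mem_and_subset hx
    have hWU : W ≤ U := hWU₀
    refine ⟨W, hWU, hxW, ?_⟩
    rw [res_smul, map_zero, ← sigPow_kill σ J n hmem (fun W a ha c => hn W a ha c) n le_rfl ⟨W, hW⟩
      (res _ hWU p) 1 (by simp) (res _ hWU ((cokernel.π ι).app U t))]
    congr 1
    rw [mul_one, resO_co]
  let T := ShortComplex.mk ι (cokernel.π ι) (cokernel.condition ι)
  have hT : T.Exact := ShortComplex.exact_of_g_is_cokernel T (cokernelIsCokernel ι)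
  have hpow : ∀ k : ℕ, ∃ p : Γ(CohB1.tensorPow F k, D), (co (sigPow σ k) D p) = 1 := by
    intro k
    induction k with
    | zero => exact ⟨(1 : Γ(X, D)), rfl⟩
    | succ k ih =>
      obtain ⟨p, hp⟩ := ih
      refine ⟨tm p e, ?_⟩
      show (co σ D ((mulBy (sigPow σ k) F).app D (tm p e))) = 1
      rw [mulBy_tm, hp, one_smul, he]
  obtain ⟨p, hp⟩ := hpow n
  refine ⟨n, hT.lift _ h0 ≫ φ', tm p e, ?_⟩
  let g : Γ(G, D) := (hT.lift _ h0).app D (tm p e)
  have hg : ι.app D g = e := by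
    show ((hT.lift _ h0) ≫ ι).app D (tm p e) = e
    rw [show hT.lift _ h0 ≫ ι = mulBy (sigPow σ n) F from hT.lift_f _ h0, mulBy_tm, hp, one_smul]
  show φ'.app D g = m
  have key : ∀ (W : (D : Scheme.{u}).Opens) (g' : Γ(G, D.ι ''ᵁ W)), φ'.app (D.ι ''ᵁ W) g' =
      (co σ _ (ι.app (D.ι ''ᵁ W) g')) • res M (hle _) m := fun W g' =>
    congrArg (fun α : (Scheme.Modules.restrictFunctor D.ι).obj G ⟶
      (Scheme.Modules.restrictFunctor D.ι).obj M => α.app W g') hφ'
  have eD : D ≤ D.ι ''ᵁ ⊤ := fun y hy => ⟨⟨y, hy⟩, trivial, rfl⟩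
  refine section_eq_of_locally fun x hx => ⟨D.ι ''ᵁ ⊤, hle _, eD hx, ?_⟩
  rw [app_res, key, ← app_res, hg, ← resO_co, he, map_one, one_smul]

/-- Finitely many powers map onto a coherent module over an affine open cut out by a cosection. -/
theorem exists_powers_onto (σ : F ⟶ Coh.structureModule X) (hF : Coh.IsCoh F) (hM : Coh.IsCoh M)
    (D : X.Opens) (hD : IsAffineOpen D)
    (hσ : ∀ (U : X.Opens) (t : Γ(F, U)), X.basicOpen (co σ U t) ≤ D)
    (e : Γ(F, D)) (he : (co σ D e) = 1) :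
    ∃ (S : Finset Γ(M, D)) (n : S → ℕ) (ψ : ∀ s : S, CohB1.tensorPow F (n s + 1) ⟶ M),
      ∀ (Q : X.Modules) (Φ : Q ⟶ M), (∀ s : S, ∃ j, j ≫ Φ = ψ s) →
        ∀ x ∈ D, Function.Surjective (st Φ x) := by
  haveI := QC.finite_sections hD (M := M) (hM := hM.1) hM.2
  obtain ⟨S, hS⟩ := Module.Finite.fg_top (R := Γ(X, D)) (M := Γ(M, D))
  choose n ψ t ht using fun s : S => exists_pow_hom σ hF hM D hσ e he s.1
  refine ⟨S, n, ψ, fun Q Φ hΦ x hx z => ?_⟩
  choose j hj using hΦ
  have hall : ∀ y : Γ(M, D), ∃ q : Γ(Q, D), Φ.app D q = y := fun y => by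
    have hy : y ∈ Submodule.span Γ(X, D) (S : Set Γ(M, D)) := hS ▸ Submodule.mem_top
    induction hy using Submodule.span_induction with
    | mem a ha =>
      refine ⟨(j ⟨a, ha⟩).app D (t ⟨a, ha⟩), ?_⟩
      exact (congrArg (fun α : CohB1.tensorPow F (n ⟨a, ha⟩ + 1) ⟶ M => α.app D (t ⟨a, ha⟩))
        (hj ⟨a, ha⟩)).trans (ht ⟨a, ha⟩)
    | zero => exact ⟨0, map_zero _⟩
    | add a b _ _ ha hb =>
      obtain ⟨p, hp⟩ := ha
      obtain ⟨q, hq⟩ := hb
      exact ⟨p + q, by rw [map_add, hp, hq]⟩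
    | smul c a _ ha =>
      obtain ⟨p, hp⟩ := ha
      exact ⟨c • p, by rw [TMul.app_smul, hp]⟩
  obtain ⟨U, hU, y, rfl⟩ := TopCat.Presheaf.exists_germ_eq M.presheaf z
  obtain ⟨c, hc, hxc⟩ := hD.exists_basicOpen_le (V := U) ⟨x, hU⟩ hx
  obtain ⟨k, y₀, hy₀⟩ := (QC.isLoc_of_isQCoh hD (M := M) (hM := hM.1)).exists_extend c (res M hc y)
  obtain ⟨q, hq⟩ := hall y₀
  obtain ⟨v, hv⟩ := (QC.isUnit_resO_basicOpen hD c).pow k
  refine ⟨Q.presheaf.germ _ x hxc ((↑v⁻¹ : Γ(X, X.basicOpen c)) • res Q (X.basicOpen_le c) q), ?_⟩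
  rw [st_germ, TMul.app_smul, ← app_res, hq, hy₀, smul_smul, ← hv, v.inv_mul, one_smul, CohBig.germ_res']

end Groth.Agent.AmpleNbhd
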