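import Groth.Agent.AmpleNbhd.Build
import Groth.Agent.InvExt.Module
import Groth.Agent.ThetaLib.HomGen
import Groth.Agent.Nakai.PullIdeal
import Groth.Agent.TMul.Pullback
import Groth.Agent.CohBig.Maps

/-!
Descending an invertible module along a morphism that is an isomorphism over an open, from
trivialisations over pieces meeting pairwise inside that open.
-/

set_option autoImplicit false
set_option backward.isDefEq.respectTransparency false
set_option linter.style.haveILetI false

universe u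

open CategoryTheory CategoryTheory.Limits AlgebraicGeometry TopologicalSpace Opposite
open Groth.Agent.QC (res resO res_res res_smul resO_resO app_res section_eq_of_locally Sub)
open Groth.Agent.InvExt (PairSec pairs glued)
open TMul (IsGen)

noncomputable section

namespace Groth.Agent.AmpleNbhd

variable {X Y : Scheme.{u}}

/-- A generator upstairs over an open where the morphism is an isomorphism generates downstairs. -/
theorem gen_push (f : Y ⟶ X) (U : X.Opens) [IsIso (f ∣_ U)] {M : Y.Modules} {O : X.Opens} (hO : O ≤ U)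
    {t : Γ(M, f ⁻¹ᵁ O)} (ht : IsGen t) :
    IsGen (show Γ((Scheme.Modules.pushforward f).obj M, O) from t) := fun V hV =>
  (ht (f ⁻¹ᵁ V) (f.preimage_mono hV)).comp (CohBig.app_bijective_of_isIso f U V (hV.trans hO))

/-- A module descended along `f`, with its descended sections. -/
theorem exists_descent {κ : Type u} (f : Y ⟶ X) [IsProper f] (U : X.Opens) [IsIso (f ∣_ U)]
    (W : κ → X.Opens) (hW : ∀ z w, z ≠ w → W z ⊓ W w ≤ U) (hcov : ∀ x : X, x ∈ U ∨ ∃ z, x ∈ W z)
    {M : Y.Modules} (hM : PicF.IsInvertible M) (g : ∀ z, Γ(M, f ⁻¹ᵁ W z)) (hg : ∀ z, IsGen (g z)) :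
    ∃ L : X.Modules, PicF.IsInvertible L ∧ Nonempty ((Scheme.Modules.pullback f).obj L ≅ M) ∧
      ∀ (σ : Γ(M, ⊤)) (q : ∀ z, Γ(X, W z)), (∀ z, res M le_top σ = f.app (W z) (q z) • g z) →
        ∃ s : Coh.structureModule X ⟶ L, (∀ z, W z ⊓ CohB1.genLocus L s = X.basicOpen (q z)) ∧
          f ⁻¹ᵁ (U ⊓ CohB1.genLocus L s) = f ⁻¹ᵁ U ⊓ CohB1.genLocus M (TMul.homOf σ) := by
  classical
  let F := (Scheme.Modules.pushforward f).obj M
  let g' : ∀ z, Γ(F, W z ⊓ ⊤) := fun z => res F inf_le_left (show Γ(F, W z) from g z)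
  let G := glued g'
  have hcond : ∀ {V : X.Opens} {p : PairSec F W V}, p ∈ G.obj V → ∀ z (O : X.Opens) (h₁ : O ≤ V)
      (h₂ : O ≤ W z), res F h₁ p.1 = resO X (le_inf h₁ h₂) (p.2 z) • res F h₂ (show Γ(F, W z) from g z) :=
    fun {V p} hp z O h₁ h₂ => by
      rw [hp z O h₁ (le_inf h₂ le_top), res_res]
  have hbij : ∀ (z : κ) (O : X.Opens) (hO : O ≤ U) (h₂ : O ≤ W z), Function.Bijective
      fun c : Γ(X, O) => c • res F h₂ (show Γ(F, W z) from g z) := fun z O hO h₂ => by
    have h := gen_push f U hO ((hg z).res (f.preimage_mono h₂)) O le_rfl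
    simp only [Groth.Agent.QC.res_self] at h
    exact h
  let π : G.toModules ⟶ F := G.ι ≫
    ⟨PresheafOfModules.homMk
      { app := fun V => AddCommGrpCat.ofHom (AddMonoidHom.fst _ _ : PairSec F W V.unop →+ Γ(F, V.unop))
        naturality := fun V V' h => rfl }
      fun V r p => rfl⟩
  have hπ : ∀ (V : X.Opens) (p : Γ(G.toModules, V)), π.app V p = (G.ι.app V p : PairSec F W V).1 :=
    fun V p => rfl
  have hmem : ∀ {V : X.Opens} (p : Γ(G.toModules, V)), (G.ι.app V p : PairSec F W V) ∈ G.obj V :=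
    fun {V} p => (G.range_ι_app V _).1 ⟨p, rfl⟩
  -- over opens inside `U` a pair is its first coordinate
  have hU : ∀ (V : X.Opens), V ≤ U → Function.Bijective (π.app V) := fun V hV => by
    refine ⟨fun p p' h => G.ι_app_injective V (Prod.ext h (funext fun z => ?_)), fun s => ?_⟩
    · have e := hcond (hmem p) z (V ⊓ W z) inf_le_left inf_le_right
      have e' := hcond (hmem p') z (V ⊓ W z) inf_le_left inf_le_right
      rw [Groth.Agent.QC.resO_self] at e e'
      have h' : (G.ι.app V p : PairSec F W V).1 = (G.ι.app V p' : PairSec F W V).1 := h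
      rw [h', e'] at e
      exact ((hbij z _ (inf_le_left.trans hV) inf_le_right).1 e).symm
    · choose c hc using fun z => (hbij z (V ⊓ W z) (inf_le_left.trans hV) inf_le_right).2 (res F inf_le_left s)
      have hp : (s, c) ∈ G.obj V := fun z O h₁ h₂ => by
        show res F h₁ s = resO X _ (c z) • res F h₂ (g' z)
        have e := congrArg (res F (le_inf h₁ (h₂.trans inf_le_left))) (hc z)
        rw [res_smul, res_res, res_res] at e
        rw [res_res]
        exact e.symm
      exact ⟨⟨(s, c), hp⟩, rfl⟩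
  -- generators on the pieces
  have hgen : ∀ z₀, ∃ e : Γ(G.toModules, W z₀), IsGen e ∧ π.app (W z₀) e = g z₀ ∧
      (G.ι.app _ e : PairSec F W (W z₀)).2 z₀ = 1 := fun z₀ => by
    have hc : ∀ z, ∃ c : Γ(X, W z₀ ⊓ W z), (z = z₀ → c = 1) ∧ (z ≠ z₀ →
        c • res F inf_le_right (show Γ(F, W z) from g z) = res F inf_le_left (show Γ(F, W z₀) from g z₀)) :=
      fun z => by
        by_cases hz : z = z₀
        · exact ⟨1, fun _ => rfl, fun h => absurd hz h⟩
        · obtain ⟨c, hc⟩ := (hbij z _ (hW z₀ z (Ne.symm hz)) inf_le_right).2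
            (res F inf_le_left (show Γ(F, W z₀) from g z₀))
          exact ⟨c, fun h => absurd h hz, fun _ => hc⟩
    choose c hc₁ hc₂ using hc
    have hp : ((show Γ(F, W z₀) from g z₀), c) ∈ G.obj (W z₀) := fun z O h₁ h₂ => by
      show res F h₁ (show Γ(F, W z₀) from g z₀) = resO X _ (c z) • res F h₂ (g' z)
      rw [res_res]
      by_cases hz : z = z₀
      · subst hz
        rw [hc₁ z rfl, map_one, one_smul]
      · have e := congrArg (res F (le_inf h₁ (h₂.trans inf_le_left))) (hc₂ z hz)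
        rw [res_smul, res_res, res_res] at e
        exact e.symm
    let e : Γ(G.toModules, W z₀) := ⟨_, hp⟩
    refine ⟨e, fun V hV => ?_, rfl, hc₁ z₀ rfl⟩
    have hV₀ : V ≤ V ⊓ W z₀ := le_inf le_rfl hV
    have hval : ∀ k : Γ(X, V), (G.ι.app V (k • res G.toModules hV e) : PairSec F W V) =
        (k • res F hV (show Γ(F, W z₀) from g z₀),
          fun z => resO X inf_le_left k * resO X (inf_le_inf_right (W z) hV) (c z)) := fun k => by
      rw [Scheme.Modules.Hom.app_smul]
      rfl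
    refine ⟨fun k k' h => ?_, fun p => ?_⟩
    · have h' := congrArg (fun q => (G.ι.app V q : PairSec F W V).2 z₀) h
      simp only [hval, hc₁ z₀ rfl, map_one, mul_one] at h'
      have := congrArg (resO X hV₀) h'
      rwa [resO_resO, resO_resO, Groth.Agent.QC.resO_self, Groth.Agent.QC.resO_self] at this
    · let q : PairSec F W V := G.ι.app V p
      let k : Γ(X, V) := resO X hV₀ (q.2 z₀)
      have h1 : q.1 = k • res F hV (show Γ(F, W z₀) from g z₀) := by
        have := hcond (hmem p) z₀ V le_rfl hV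
        rwa [Groth.Agent.QC.res_self] at this
      refine ⟨k, G.ι_app_injective V ((hval k).trans (Prod.ext h1.symm (funext fun z => ?_)))⟩
      show resO X inf_le_left k * resO X (inf_le_inf_right (W z) hV) (c z) = q.2 z
      by_cases hz : z = z₀
      · subst hz
        rw [hc₁ z rfl, map_one, mul_one, resO_resO, Groth.Agent.QC.resO_self]
      · refine (hbij z (V ⊓ W z) ((inf_le_inf_right _ hV).trans (hW z₀ z (Ne.symm hz))) inf_le_right).1 ?_
        have e1 := hcond (hmem p) z (V ⊓ W z) inf_le_left inf_le_right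
        rw [Groth.Agent.QC.resO_self] at e1
        show _ • _ = _ • _
        rw [← e1]
        show _ = res F inf_le_left q.1
        rw [h1, res_smul, mul_smul, res_res]
        have e2 := congrArg (res F (inf_le_inf_right (W z) hV)) (hc₂ z hz)
        rw [res_smul, res_res, res_res] at e2
        rw [e2]
  choose e he heπ he1 using hgen
  -- generators inside `U`
  have hgenU : ∀ x ∈ U, ∃ (N : X.Opens) (ε : Γ(G.toModules, N)), x ∈ N ∧ N ≤ U ∧ IsGen ε ∧
      IsGen (N := M) (show Γ(M, f ⁻¹ᵁ N) from π.app N ε) := fun x hx => by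
    obtain ⟨y, hy, huniq⟩ : ∃ y, f y = x ∧ ∀ y', f y' = x → y' = y := by
      obtain ⟨ξ, hξ⟩ := (Scheme.homeoOfIso (asIso (f ∣_ U))).surjective ⟨x, hx⟩
      have hr : ∀ z : (f ⁻¹ᵁ U : Y.Opens), ((f ∣_ U) z).1 = f z.1 := fun z =>
        congrArg (fun g : (f ⁻¹ᵁ U).toScheme ⟶ X => g z) (morphismRestrict_ι f U)
      refine ⟨ξ.1, (hr ξ).symm.trans (congrArg Subtype.val hξ), fun y' hy' => ?_⟩
      have hy'U : y' ∈ f ⁻¹ᵁ U := by show f y' ∈ U; rw [hy']; exact hx
      exact congrArg Subtype.val ((Scheme.homeoOfIso (asIso (f ∣_ U))).injective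
        (a₁ := (⟨y', hy'U⟩ : (f ⁻¹ᵁ U : Y.Opens))) (a₂ := ξ)
        (((Subtype.ext ((hr ⟨y', hy'U⟩).trans hy')) : (f ∣_ U) ⟨y', hy'U⟩ = ⟨x, hx⟩).trans hξ.symm))
    obtain ⟨O, t, hyO, ht⟩ := TMul.exists_isGen hM y
    let N : X.Opens := U ⊓ ⟨(f '' (O : Set Y)ᶜ)ᶜ, (f.isClosedMap _ O.2.isClosed_compl).isOpen_compl⟩
    have hxN : x ∈ N := ⟨hx, fun ⟨y', hy'O, hy'⟩ => hy'O (huniq y' hy' ▸ hyO)⟩
    have hNO : f ⁻¹ᵁ N ≤ O := fun y' hy' => by_contra fun h => hy'.2 ⟨y', h, rfl⟩
    obtain ⟨ε, hε⟩ := (hU N inf_le_left).2 (show Γ(F, N) from res M hNO t)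
    refine ⟨N, ε, hxN, inf_le_left, fun V hV => ?_, by rw [hε]; exact ht.res hNO⟩
    have hfun : (fun k : Γ(X, V) => π.app V (k • res G.toModules hV ε)) =
        fun k => k • res F hV (π.app N ε) := funext fun k => by
      rw [Scheme.Modules.Hom.app_smul, app_res]
    refine (Function.Bijective.of_comp_iff' (hU V (hV.trans inf_le_left)) _).1 ?_
    change Function.Bijective fun k : Γ(X, V) => π.app V (k • res G.toModules hV ε)
    rw [hfun, hε]
    exact gen_push f U (inf_le_left : N ≤ U) (ht.res hNO) V hV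
  choose N ε hxN hNU hε hεM using hgenU
  have hL : PicF.IsInvertible G.toModules := InvGen.isInvertible fun x => by
    by_cases hx : x ∈ U
    · exact ⟨_, _, hxN x hx, hε x hx⟩
    · obtain ⟨z, hz⟩ := (hcov x).resolve_left hx
      exact ⟨_, _, hz, he z⟩
  let adj := Scheme.Modules.pullbackPushforwardAdjunction f
  let φ : (Scheme.Modules.pullback f).obj G.toModules ⟶ M := (adj.homEquiv G.toModules M).symm π
  have hφ : ∀ (V : X.Opens) (p : Γ(G.toModules, V)),
      φ.app (f ⁻¹ᵁ V) (OmegaSh.pullSect f G.toModules V p) = π.app V p := fun V p => by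
    have h : adj.unit.app G.toModules ≫ (Scheme.Modules.pushforward f).map φ = π :=
      (adj.homEquiv_unit _ _ _).symm.trans (Equiv.apply_symm_apply _ _)
    exact ConcreteCategory.congr_hom (congrArg (fun a => a.app V) h) p
  haveI : IsIso φ := by
    let U' : κ ⊕ {x : X // x ∈ U} → Y.Opens := fun i =>
      i.elim (fun z => f ⁻¹ᵁ W z) fun x => f ⁻¹ᵁ N x.1 x.2
    let s : ∀ i, Γ((Scheme.Modules.pullback f).obj G.toModules, U' i) := fun i => match i with
      | .inl z => OmegaSh.pullSect f _ (W z) (e z)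
      | .inr x => OmegaSh.pullSect f _ (N x.1 x.2) (ε x.1 x.2)
    refine ThetaLib.isIso_of_gens U' s (fun y => ?_) (fun i => ?_) φ fun i => ?_
    · rcases hcov (f y) with h | ⟨z, hz⟩
      · exact ⟨.inr ⟨_, h⟩, hxN _ h⟩
      · exact ⟨.inl z, hz⟩
    · rcases i with z | x
      · exact Nakai.isGen_pullSect f hL (he z)
      · exact Nakai.isGen_pullSect f hL (hε x.1 x.2)
    · rcases i with z | x
      · show IsGen (φ.app (f ⁻¹ᵁ W z) (OmegaSh.pullSect f _ (W z) (e z)))
        rw [hφ, heπ]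
        exact hg z
      · show IsGen (φ.app (f ⁻¹ᵁ N x.1 x.2) (OmegaSh.pullSect f _ _ (ε x.1 x.2)))
        rw [hφ]
        exact hεM x.1 x.2
  refine ⟨G.toModules, hL, ⟨asIso φ⟩, fun σ q hq => ?_⟩
  let p : PairSec F W ⊤ :=
    ((show Γ(F, ⊤) from σ), fun z => resO X (inf_le_right : ⊤ ⊓ W z ≤ W z) (q z))
  have hp : p ∈ G.obj ⊤ := fun z O h₁ h₂ => by
    change res F h₁ (show Γ(F, ⊤) from σ) = resO X _ (resO X _ (q z)) • res F h₂ (g' z)
    have e0 : res F (le_top : W z ≤ ⊤) (show Γ(F, ⊤) from σ) = q z • (show Γ(F, W z) from g z) := hq z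
    have e := congrArg (res F (h₂.trans inf_le_left)) e0
    rw [res_res, res_smul] at e
    rw [res_res, resO_resO]
    exact e
  let P : Γ(G.toModules, ⊤) := (⟨p, hp⟩ : G.obj ⊤)
  refine ⟨TMul.homOf P, fun z => TMul.genLocus_inf (TMul.homOf P) (he z) ?_, ?_⟩
  · obtain ⟨k, hk⟩ := ((he z) (W z) le_rfl).2 (TMul.val (TMul.homOf P) (W z))
    simp only [Groth.Agent.QC.res_self] at hk
    rw [← hk]
    refine congrArg (· • e z) ?_
    have h1 := congrArg (fun r => (G.ι.app (W z) r : PairSec F W (W z)).2 z) hk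
    rw [TMul.val_homOf] at h1
    change (G.ι.app (W z) (k • e z) : PairSec F W (W z)).2 z = _ at h1
    rw [Scheme.Modules.Hom.app_smul] at h1
    change resO X (inf_le_left : W z ⊓ W z ≤ W z) k * (G.ι.app (W z) (e z) : PairSec F W (W z)).2 z =
      resO X (inf_le_inf_right (W z) le_top) (resO X (inf_le_right : ⊤ ⊓ W z ≤ W z) (q z)) at h1
    rw [he1, mul_one, resO_resO] at h1
    have h2 := congrArg (resO X (le_inf le_rfl le_rfl : W z ≤ W z ⊓ W z)) h1
    rwa [resO_resO, resO_resO, Groth.Agent.QC.resO_self, Groth.Agent.QC.resO_self] at h2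
  · ext y
    show f y ∈ U ⊓ _ ↔ f y ∈ U ∧ y ∈ _
    refine and_congr_right fun hy => ?_
    obtain ⟨c, hc⟩ := ((hε _ hy) _ le_rfl).2 (TMul.val (TMul.homOf P) (N _ hy))
    simp only [Groth.Agent.QC.res_self] at hc
    have hd : TMul.val (TMul.homOf σ) (f ⁻¹ᵁ N _ hy) =
        f.app (N _ hy) c • (show Γ(M, f ⁻¹ᵁ N _ hy) from π.app (N _ hy) (ε _ hy)) := by
      have h := congrArg (π.app (N _ hy)) hc
      rw [Scheme.Modules.Hom.app_smul, TMul.val_homOf, ← app_res] at h
      rw [TMul.val_homOf]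
      exact h.symm
    have h1 := TMul.genLocus_inf (TMul.homOf P) (hε _ hy) hc.symm
    have h2 := TMul.genLocus_inf (TMul.homOf σ) (hεM _ hy) hd
    rw [← Scheme.preimage_basicOpen, ← h1] at h2
    exact ⟨fun h => (h2.ge (show y ∈ f ⁻¹ᵁ (N _ hy ⊓ _) from ⟨hxN _ hy, h⟩)).2,
      fun h => ((h2.le ⟨hxN _ hy, h⟩ : y ∈ f ⁻¹ᵁ (N _ hy ⊓ _))).2⟩

end Groth.Agent.AmpleNbhd
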