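import Groth.Agent.RZExt.Graph

/-!
The closure of a graph, with its compatibility over the base.
-/

set_option autoImplicit false
set_option linter.style.haveILetI false
set_option backward.isDefEq.respectTransparency false
set_option backward.isDefEq.respectTransparency.types false

universe u

open CategoryTheory CategoryTheory.Limits AlgebraicGeometry TopologicalSpace Topology
open Groth.Agent.RZExt

noncomputable section

namespace Groth.Agent.AmpleNbhd

set_option maxHeartbeats 1000000 in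
/-- The graph closure of an open immersion, over the base. -/
theorem exists_dominating' {U S Y : Scheme.{u}} [CompactSpace S] [QuasiSeparatedSpace S]
    (g : U ⟶ S) [IsSeparated g] [LocallyOfFiniteType g] [QuasiCompact g]
    (V : U.Opens) (hV : IsCompact (V : Set U)) (j : (V : Scheme.{u}) ⟶ Y) [IsOpenImmersion j] [QuasiCompact j]
    (πY : Y ⟶ S) [IsProper πY] (hj : j ≫ πY = V.ι ≫ g) :
    ∃ (𝓘 : Y.IdealSheafData) (Y' : Scheme.{u}) (b : Y' ⟶ Y), BlowUp.IsBlowUp b 𝓘 ∧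
      BlowUp.IsAdmissibleFor j.opensRange 𝓘 ∧
      ∃ (V' : Y'.Opens) (hle : b ⁻¹ᵁ j.opensRange ≤ V') (h : (V' : Scheme.{u}) ⟶ U),
        IsProper h ∧ h ≫ g = V'.ι ≫ b ≫ πY ∧
        ∃ k : ((b ⁻¹ᵁ j.opensRange : Y'.Opens) : Scheme.{u}) ⟶ V,
          k ≫ j = (b ∣_ j.opensRange) ≫ j.opensRange.ι ∧ Y'.homOfLE hle ≫ h = k ≫ V.ι := by
  haveI : CompactSpace Y := QuasiCompact.compactSpace_of_compactSpace πY
  haveI : QuasiSeparatedSpace Y := quasiSeparatedSpace_of_quasiSeparated πY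
  haveI : CompactSpace V.toScheme := isCompact_iff_compactSpace.1 hV
  let γ : V.toScheme ⟶ pullback g πY := pullback.lift V.ι j hj.symm
  haveI : QuasiCompact γ := by
    haveI : QuasiCompact (γ ≫ pullback.snd g πY) := by rw [pullback.lift_snd]; infer_instance
    exact QuasiCompact.of_comp γ (pullback.snd g πY)
  let O := j.opensRange
  haveI : IsIso (j ∣_ O) := by
    have h1 : j ⁻¹ᵁ O = ⊤ := top_le_iff.1 fun z _ => ⟨z, rfl⟩
    haveI : IsIso (j ⁻¹ᵁ O).ι := by rw [h1, ← Scheme.topIso_hom]; infer_instance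
    rw [show j ∣_ O = (j ⁻¹ᵁ O).ι ≫ j.isoOpensRange.hom by
      rw [← cancel_mono O.ι, morphismRestrict_ι, Category.assoc, Scheme.Hom.isoOpensRange_hom_ι]]
    infer_instance
  haveI : IsClosedImmersion (γ ∣_ (pullback.snd g πY ⁻¹ᵁ O)) := by
    have key : ∀ (k : V.toScheme ⟶ Y), k = j → IsClosedImmersion (k ∣_ O) := by
      rintro _ rfl
      infer_instance
    haveI : IsClosedImmersion (γ ∣_ (pullback.snd g πY ⁻¹ᵁ O) ≫ pullback.snd g πY ∣_ O) := by
      rw [← morphismRestrict_comp]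
      exact key _ (pullback.lift_snd _ _ _)
    exact IsClosedImmersion.of_comp (γ ∣_ (pullback.snd g πY ⁻¹ᵁ O)) (pullback.snd g πY ∣_ O)
  haveI := isIso_toImage_restrict γ (pullback.snd g πY ⁻¹ᵁ O)
  let f := γ.imageι ≫ pullback.snd g πY
  haveI : IsIso (f ∣_ O) := by
    have h1 : γ.toImage ∣_ (f ⁻¹ᵁ O) ≫ f ∣_ O = (γ.toImage ≫ f) ∣_ O := (morphismRestrict_comp _ _ _).symm
    have h2 : γ.toImage ≫ f = j := by
      rw [show γ.toImage ≫ f = (γ.toImage ≫ γ.imageι) ≫ pullback.snd g πY from (Category.assoc _ _ _).symm,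
        Scheme.Hom.toImage_imageι, pullback.lift_snd]
    have key : ∀ (k : V.toScheme ⟶ Y), k = j → IsIso (k ∣_ O) := by
      rintro _ rfl
      infer_instance
    haveI : IsIso (γ.toImage ∣_ (f ⁻¹ᵁ O) ≫ f ∣_ O) := h1.symm ▸ key _ h2
    haveI : IsIso (γ.toImage ∣_ (f ⁻¹ᵁ O)) := ‹IsIso (γ.toImage ∣_ (γ.imageι ⁻¹ᵁ (pullback.snd g πY ⁻¹ᵁ O)))›
    exact IsIso.of_isIso_comp_left (γ.toImage ∣_ (f ⁻¹ᵁ O)) (f ∣_ O)
  have hOc : IsCompact (O : Set Y) := isCompact_range j.continuous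
  obtain ⟨I, D, hD, hf, hle, hblow, hadm, -⟩ := exists_openImmersion hOc f
  haveI : IsProper hD := BlowUpExist.isProper_of_isFiniteType hblow hadm.1
  refine ⟨I.ideal, I.T, I.b, I.isBlowUp, ⟨I.ft, by rw [I.supp]; exact disjoint_compl_left⟩, D, hle,
    hD ≫ γ.imageι ≫ pullback.fst g πY, inferInstance, by
      rw [Category.assoc, Category.assoc, pullback.condition, ← reassoc_of% hf]; simp only [f, Category.assoc], I.b ∣_ O ≫ inv (j ∣_ O) ≫ (j ⁻¹ᵁ O).ι, ?_, ?_⟩
  · rw [Category.assoc, Category.assoc]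
    congr 1
    rw [← morphismRestrict_ι j, IsIso.inv_hom_id_assoc]
  · set w := inv (j ∣_ O) ≫ (j ⁻¹ᵁ O).ι with hw
    have hwj : w ≫ j = O.ι := by rw [hw, Category.assoc, ← morphismRestrict_ι j, IsIso.inv_hom_id_assoc]
    have h1 : I.T.homOfLE hle ≫ hD = I.b ∣_ O ≫ w ≫ γ.toImage := by
      refine (eq_comp_section (f := f) (s := w ≫ γ.toImage) ?_ _ (I.b ∣_ O) ?_).trans rfl
      · show (w ≫ γ.toImage) ≫ γ.imageι ≫ pullback.snd g πY = O.ι
        rw [Category.assoc, Scheme.Hom.toImage_imageι_assoc, pullback.lift_snd, hwj]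
      · rw [Category.assoc, hf, Scheme.homOfLE_ι_assoc, morphismRestrict_ι]
    rw [reassoc_of% h1, Scheme.Hom.toImage_imageι_assoc, pullback.lift_fst]
    simp only [hw, Category.assoc]

end Groth.Agent.AmpleNbhd
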