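import Groth.Agent.NormLB.Module
import Groth.Agent.TMul.AmpleBasis
import Groth.Prelude.Def_MoreMor

/-!
An open covered by an affine open and opens meeting pairwise inside it carries an ample family.
-/

set_option autoImplicit false
set_option backward.isDefEq.respectTransparency false
set_option linter.style.haveILetI false

universe u

open CategoryTheory CategoryTheory.Limits AlgebraicGeometry TopologicalSpace Opposite
open Groth.Agent.QC (res resO res_res res_smul resO_resO)

noncomputable section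

namespace Groth.Agent.AmpleNbhd

variable {Y : Scheme.{u}}

/-- The invertible module glued from units on the traces on `U`, with its sections. -/
theorem exists_glued {κ : Type u} (W : κ → Y.Opens) (U : Y.Opens)
    (hW : ∀ z w, z ≠ w → W z ⊓ W w ≤ U) (hcov : ∀ y : Y, ∃ z, y ∈ W z) (u : ∀ z, (Γ(Y, U ⊓ W z))ˣ) :
    ∃ L : Y.Modules, PicF.IsInvertible L ∧ ∀ (α : Γ(Y, U)) (q : ∀ z, Γ(Y, W z)),
      (∀ z, resO Y inf_le_right (q z) = resO Y inf_le_left α * (u z : Γ(Y, U ⊓ W z))) →
      ∃ s : Coh.structureModule Y ⟶ L, ∀ z, W z ⊓ CohB1.genLocus L s = Y.basicOpen (q z) := by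
  classical
  let c : ∀ z w, Γ(Y, W z ⊓ W w) := fun z w =>
    if h : z = w then 1 else
      resO Y (le_inf (hW z w h) inf_le_left : W z ⊓ W w ≤ U ⊓ W z) ((u z)⁻¹ : (Γ(Y, U ⊓ W z))ˣ).val *
        resO Y (le_inf (hW z w h) inf_le_right : W z ⊓ W w ≤ U ⊓ W w) (u w : Γ(Y, U ⊓ W w))
  have hself : ∀ z (O : Y.Opens) (h : O ≤ W z ⊓ W z), resO Y h (c z z) = 1 := fun z O h => by
    simp only [c, dite_true, map_one]
  have hform : ∀ z w (O : Y.Opens) (hz : O ≤ W z) (hw : O ≤ W w) (hO : O ≤ U),
      resO Y (le_inf hz hw) (c z w) = resO Y (le_inf hO hz) ((u z)⁻¹ : (Γ(Y, U ⊓ W z))ˣ).val *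
        resO Y (le_inf hO hw) (u w : Γ(Y, U ⊓ W w)) := by
    intro z w O hz hw hO
    by_cases h : z = w
    · subst h
      rw [hself, ← map_mul, Units.inv_mul, map_one]
    · simp only [c, dif_neg h, map_mul, resO_resO]
  have hc : NormLB.IsCocycle c := by
    intro z w v O hz hw hv
    by_cases h1 : z = w
    · subst h1
      rw [hself, one_mul]
    by_cases h2 : w = v
    · subst h2
      rw [hself, mul_one]
    have hO : O ≤ U := (le_inf hz hw).trans (hW z w h1)
    rw [hform z w O hz hw hO, hform w v O hw hv hO, hform z v O hz hv hO]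
    have e1 : resO Y (le_inf hO hw) (u w : Γ(Y, U ⊓ W w)) *
        resO Y (le_inf hO hw) ((u w)⁻¹ : (Γ(Y, U ⊓ W w))ˣ).val = 1 := by
      rw [← map_mul, Units.mul_inv, map_one]
    linear_combination resO Y (le_inf hO hz) ((u z)⁻¹ : (Γ(Y, U ⊓ W z))ˣ).val *
      resO Y (le_inf hO hv) (u v : Γ(Y, U ⊓ W v)) * e1
  have hu : ∀ z w, IsUnit (c z w) := by
    intro z w
    simp only [c]
    split_ifs with h
    · exact isUnit_one
    · exact ((Units.isUnit _).map _).mul ((Units.isUnit _).map _)
  refine ⟨NormLB.line c, NormLB.isInvertible_line hc hu hcov, fun α q hq => ?_⟩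
  have hq' : ∀ z w (O : Y.Opens) (hz : O ≤ W z) (hw : O ≤ W w),
      resO Y hw (q w) = resO Y hz (q z) * resO Y (le_inf hz hw) (c z w) := by
    intro z w O hz hw
    by_cases h : z = w
    · subst h
      rw [hself, mul_one]
    have hO : O ≤ U := (le_inf hz hw).trans (hW z w h)
    have e : ∀ v (hv : O ≤ W v), resO Y hv (q v) = resO Y hO α * resO Y (le_inf hO hv) (u v : Γ(Y, U ⊓ W v)) :=
      fun v hv => by
        rw [← resO_resO (le_inf hO hv) inf_le_right, hq, map_mul, resO_resO]
    rw [hform z w O hz hw hO, e z hz, e w hw, ← mul_assoc, mul_assoc (resO Y hO α), ← map_mul, Units.mul_inv,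
      map_one, mul_one]
  let t : Γ(NormLB.line c, ⊤) :=
    (⟨((0 : Γ(Coh.structureModule Y, ⊤)), fun z => resO Y inf_le_right (q z)), rfl, fun z w O hV hz hw => by
      show resO Y _ (resO Y _ (q w)) = resO Y _ (resO Y _ (q z)) * _
      rw [resO_resO, resO_resO]
      exact hq' z w O hz hw⟩ : (NormLB.fams c).obj ⊤)
  refine ⟨TMul.homOf t, fun z => TMul.genLocus_inf (TMul.homOf t) (NormLB.isGen_gen hc hu z) ?_⟩
  rw [TMul.val_homOf]
  refine NormLB.eq_of_coord fun w => ?_
  rw [NormLB.coord_res, NormLB.coord_smul, NormLB.coord_gen]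
  show resO Y _ (resO Y _ (q w)) = _
  rw [resO_resO, hq' z w (W z ⊓ W w) inf_le_left inf_le_right, QC.resO_self]

variable {ι : Type u}

/-- An ample family from an affine open, opens `W` with basic traces on it, and functions `α`. -/
theorem hasAmpleFamily [CompactSpace Y] [QuasiSeparatedSpace Y] (U : Y.Opens) (hU : IsAffineOpen U)
    (W : ι → Y.Opens) (hW : ∀ k, IsAffineOpen (W k)) (hcov : ∀ y : Y, y ∈ U ∨ ∃ k, y ∈ W k)
    (hsep : ∀ k l, k ≠ l → W k ⊓ W l ≤ U) (a : ∀ k, Γ(Y, W k)) (ha : ∀ k, U ⊓ W k = Y.basicOpen (a k))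
    (α : ι → Γ(Y, U)) (hα : ∀ k, U ⊓ W k ≤ Y.basicOpen (α k))
    (hiv : ∀ k, ∀ v ∈ W k, ∃ g : Γ(Y, Y.basicOpen (α k) ⊔ W k), v ∈ Y.basicOpen g ∧
      IsAffineOpen (Y.basicOpen g)) :
    MoreMor.HasAmpleFamily Y := by
  classical
  let W' : Option ι → Y.Opens := fun o => o.elim U W
  have hcov' : ∀ y : Y, ∃ z, y ∈ W' z := fun y => (hcov y).elim (fun h => ⟨none, h⟩) fun ⟨k, h⟩ => ⟨some k, h⟩
  have hW' : ∀ z w, z ≠ w → W' z ⊓ W' w ≤ U := by
    rintro (_ | k) (_ | l) h
    · exact absurd rfl h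
    · exact inf_le_left
    · exact inf_le_right
    · exact hsep k l fun e => h (congrArg some e)
  have hau : ∀ k, IsUnit (resO Y (inf_le_right : U ⊓ W k ≤ W k) (a k)) := fun k => by
    have h := Y.toRingedSpace.isUnit_res_basicOpen (a k)
    have h2 : IsUnit (resO Y (Y.basicOpen_le (a k)) (a k)) := h
    rw [← resO_resO (ha k).le (Y.basicOpen_le (a k))]
    exact h2.map _
  -- a point in the locus of a section gives a member
  suffices key : ∀ v : Y, ∃ (L : Y.Modules) (s : Coh.structureModule Y ⟶ L), PicF.IsInvertible L ∧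
      ∃ g : Γ(Y, CohB1.genLocus L s), v ∈ Y.basicOpen g ∧ IsAffineOpen (Y.basicOpen g) by
    refine ⟨inferInstance, fun v => ?_⟩
    obtain ⟨L, s, hL, g, hv, hg⟩ := key v
    obtain ⟨n, t, ht⟩ := TMul.exists_genLocus_eq_basicOpen hL s g
    exact ⟨L, n + 1, t, hL, Nat.succ_pos n, ht ▸ hv, ht ▸ hg⟩
  intro v
  rcases hcov v with hv | ⟨j, hv⟩
  · let u : ∀ z, (Γ(Y, U ⊓ W' z))ˣ := fun z => match z with
      | none => 1
      | some k => (hau k).unit
    obtain ⟨L, hL, hsec⟩ := exists_glued W' U hW' hcov' u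
    let q : ∀ z, Γ(Y, W' z) := fun z => match z with
      | none => 1
      | some k => a k
    obtain ⟨s, hs⟩ := hsec 1 q (by
      rintro (_ | k)
      · simp only [q, u, map_one, Units.val_one, mul_one]
      · show resO Y _ (a k) = resO Y _ 1 * _
        rw [map_one, one_mul]
        rfl)
    have hlocU : CohB1.genLocus L s = U := by
      refine le_antisymm (fun y hy => ?_) fun y hy => ?_
      · rcases hcov y with h | ⟨k, h⟩
        · exact h
        · exact ((ha k).ge ((hs (some k)).le ⟨h, hy⟩)).1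
      · exact ((hs none).ge (show y ∈ Y.basicOpen (1 : Γ(Y, U)) by
          rw [Scheme.basicOpen_of_isUnit _ isUnit_one]; exact hy)).2
    refine ⟨L, s, hL, 1, ?_⟩
    rw [Scheme.basicOpen_of_isUnit _ isUnit_one, hlocU]
    exact ⟨hv, hU⟩
  · have hext : ∀ k, ∃ (n : ℕ) (b : Γ(Y, W k)), resO Y (inf_le_right : U ⊓ W k ≤ W k) b =
        resO Y inf_le_left (α j) * resO Y inf_le_right (a k) ^ n := fun k => by
      obtain ⟨n, b, hb⟩ := (QC.isLoc_of_isQCoh (hW k) (hM := QC.isQCoh_unit Y)).exists_extend (a k)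
        (show Γ(Coh.structureModule Y, Y.basicOpen (a k)) from resO Y ((ha k).ge.trans inf_le_left) (α j))
      have hb' : resO Y (Y.basicOpen_le (a k)) b =
          resO Y (Y.basicOpen_le (a k)) (a k) ^ n * resO Y ((ha k).ge.trans inf_le_left) (α j) := hb
      refine ⟨n, b, ?_⟩
      have h := congrArg (resO Y (ha k).le) hb'
      rw [map_mul, map_pow, resO_resO, resO_resO, resO_resO] at h
      rw [h, mul_comm]
    choose n b hb using hext
    have hαu : IsUnit (resO Y (inf_le_left : U ⊓ W j ≤ U) (α j)) := by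
      have h2 : IsUnit (resO Y (Y.basicOpen_le (α j)) (α j)) := Y.toRingedSpace.isUnit_res_basicOpen (α j)
      rw [← resO_resO (hα j) (Y.basicOpen_le (α j))]
      exact h2.map _
    let u : ∀ z, (Γ(Y, U ⊓ W' z))ˣ := fun z => match z with
      | none => 1
      | some k => if h : k = j then h ▸ hαu.unit⁻¹ else (hau k).unit ^ (n k + 1)
    let q : ∀ z, Γ(Y, W' z) := fun z => match z with
      | none => α j
      | some k => if k = j then 1 else a k * b k
    obtain ⟨L, hL, hsec⟩ := exists_glued W' U hW' hcov' u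
    obtain ⟨s, hs⟩ := hsec (α j) q (by
      rintro (_ | k)
      · simp only [q, u, Units.val_one, mul_one]
        rfl
      · by_cases h : k = j
        · subst h
          simp only [q, u, if_true, dite_true, map_one]
          exact hαu.mul_val_inv.symm
        · simp only [q, u, if_neg h, dif_neg h, map_mul, hb, Units.val_pow_eq_pow_val, IsUnit.unit_spec]
          show resO Y (inf_le_right : U ⊓ W k ≤ W k) (a k) * resO Y (inf_le_right : U ⊓ W k ≤ W k) (b k) =
            resO Y (inf_le_left : U ⊓ W k ≤ U) (α j) * resO Y (inf_le_right : U ⊓ W k ≤ W k) (a k) ^ (n k + 1)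
          rw [hb k]
          ring)
    have hloc : CohB1.genLocus L s = Y.basicOpen (α j) ⊔ W j := by
      refine le_antisymm (fun y hy => ?_) (sup_le (fun y hy => ((hs none).ge hy).2) fun y hy => ?_)
      · rcases hcov y with h | ⟨k, h⟩
        · exact Or.inl ((hs none).le ⟨h, hy⟩)
        · by_cases hkj : k = j
          · exact Or.inr (hkj ▸ h)
          · have h1 : y ∈ Y.basicOpen (q (some k)) := (hs (some k)).le ⟨h, hy⟩
            have h2 : y ∈ Y.basicOpen (a k) := by
              simp only [q, if_neg hkj, Scheme.basicOpen_mul] at h1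
              exact h1.1
            exact Or.inl ((hs none).le ⟨((ha k).ge h2).1, hy⟩)
      · refine ((hs (some j)).ge ?_).2
        simp only [q, if_true]
        rw [Scheme.basicOpen_of_isUnit _ isUnit_one]
        exact hy
    have h := hiv j v hv
    rw [← hloc] at h
    exact ⟨L, s, hL, h⟩

end Groth.Agent.AmpleNbhd
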