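import Groth.Agent.Chow.Cover
import Groth.Agent.RZExt.Graph
import Groth.Agent.QProjRows.Basic
import Groth.Agent.S8910
import Groth.Agent.SymAlg.ProjProper

/-!
Birational proper modifications carrying an ample module which are isomorphisms near a given point.
-/

set_option autoImplicit false
set_option backward.isDefEq.respectTransparency false
set_option linter.style.haveILetI false

universe u

open CategoryTheory CategoryTheory.Limits AlgebraicGeometry TopologicalSpace

noncomputable section

namespace Groth.Agent.AmpleNbhd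

/-- Being an isomorphism over an open passes to smaller opens. -/
theorem isIso_restrict_of_le {X Z : Scheme.{u}} (h : Z ⟶ X) {W O : X.Opens} (hWO : W ≤ O) [IsIso (h ∣_ O)] :
    IsIso (h ∣_ W) :=
  (MorphismProperty.isomorphisms.iff _).mp
    (((MorphismProperty.isomorphisms Scheme.{u}).arrow_mk_iso_iff
      (morphismRestrictRestrict h O (O.ι ⁻¹ᵁ W) ≪≫ morphismRestrictEq h (by
        rw [Scheme.Hom.image_preimage_eq_opensRange_inf, Scheme.Opens.opensRange_ι, inf_eq_right.mpr hWO]))).mp
      (IsZariskiLocalAtTarget.restrict (P := MorphismProperty.isomorphisms Scheme.{u})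
        ((MorphismProperty.isomorphisms.iff _).mpr ‹IsIso (h ∣_ O)›) _))

/-- A proper morphism with a section over an open by an open immersion with dense range is an
isomorphism over that open. -/
theorem isIso_of_dense_section {X Y : Scheme.{u}} (f : Y ⟶ X) [IsSeparated f] (W : X.Opens)
    (σ : (W : Scheme.{u}) ⟶ Y) [IsOpenImmersion σ] (hσ : σ ≫ f = W.ι) (hd : Dense (Set.range σ.base)) :
    IsIso (f ∣_ W) := by
  have hr : Set.range σ.base ⊆ Set.range (f ⁻¹ᵁ W).ι.base := by
    rintro _ ⟨a, rfl⟩
    rw [Scheme.Opens.range_ι]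
    show f (σ a) ∈ W
    rw [← Scheme.Hom.comp_apply, hσ]
    exact a.2
  let l := IsOpenImmersion.lift (f ⁻¹ᵁ W).ι σ hr
  have hl : l ≫ (f ⁻¹ᵁ W).ι = σ := IsOpenImmersion.lift_fac _ _ _
  have hlf : l ≫ f ∣_ W = 𝟙 _ := by
    rw [← cancel_mono W.ι, Category.assoc, morphismRestrict_ι, reassoc_of% hl, hσ, Category.id_comp]
  haveI : IsClosedImmersion (l ≫ f ∣_ W) := by rw [hlf]; infer_instance
  haveI : IsSeparated (f ∣_ W) := IsZariskiLocalAtTarget.restrict (P := @IsSeparated) ‹_› W
  haveI : IsClosedImmersion l := IsClosedImmersion.of_comp l (f ∣_ W)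
  haveI : IsOpenImmersion (l ≫ (f ⁻¹ᵁ W).ι) := by rw [hl]; infer_instance
  haveI : IsOpenImmersion l := IsOpenImmersion.of_comp l (f ⁻¹ᵁ W).ι
  haveI : Surjective l := ⟨fun z => by
    have h1 : Dense (Set.range l.base) := by
      refine dense_iff_inter_open.2 fun O hO hne => ?_
      obtain ⟨q, hq⟩ := hne
      obtain ⟨-, hyO, a, rfl⟩ := dense_iff_inter_open.1 hd _
        ((f ⁻¹ᵁ W).ι.isOpenEmbedding.isOpenMap O hO) ⟨_, q, hq, rfl⟩
      obtain ⟨b, hb, hba⟩ := hyO
      refine ⟨b, hb, a, (f ⁻¹ᵁ W).ι.injective ?_⟩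
      rw [hba, ← Scheme.Hom.comp_apply, hl]
    exact l.isClosedEmbedding.isClosed_range.closure_subset (h1 z)⟩
  haveI : IsIso l := IsOpenImmersion.isIso l
  have e : f ∣_ W = inv l := IsIso.eq_inv_of_hom_inv_id hlf
  rw [e]
  infer_instance

/-- Every point of a separated scheme of finite type over a Noetherian ring lies in a dense open over
which some proper modification with an ample module is an isomorphism. -/
theorem exists_modification (A : Type u) [CommRing A] [IsNoetherianRing A] {X : Scheme.{u}}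
    (p : X ⟶ Spec (CommRingCat.of A)) [IsSeparated p] [LocallyOfFiniteType p] [QuasiCompact p] (x : X) :
    ∃ (W : X.Opens) (X' : Scheme.{u}) (f : X' ⟶ X) (L : X'.Modules), x ∈ W ∧ Dense (W : Set X) ∧
      Dense ((f ⁻¹ᵁ W : X'.Opens) : Set X') ∧ IsProper f ∧ IsIso (f ∣_ W) ∧ CohB1.IsAmple L := by
  haveI : IsLocallyNoetherian X := LocallyOfFiniteType.isLocallyNoetherian p
  haveI : CompactSpace X := QuasiCompact.compactSpace_of_compactSpace p
  haveI : IsNoetherian X := {}
  obtain ⟨A₀, hA₀, hxA₀, -⟩ := exists_isAffineOpen_mem_and_subset (x := x) (U := (⊤ : X.Opens)) trivial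
  obtain ⟨W, hAW, hWd, hWc, n, k, hk, hkp⟩ := Chow.exists_dense_piece p
    NoetherianSpace.finite_irreducibleComponents hA₀ (isAffineOpen_top _) (fun _ _ => trivial)
  haveI := hk
  haveI : CompactSpace W.toScheme := isCompact_iff_compactSpace.1 hWc
  haveI := Chow.isProper_toBase n (Spec (CommRingCat.of A))
  haveI : QuasiCompact k := by
    haveI : QuasiCompact (k ≫ CohB1.ProjSpaceOver.toBase n (Spec (CommRingCat.of A))) := by
      rw [hkp]; infer_instance
    exact QuasiCompact.of_comp k (CohB1.ProjSpaceOver.toBase n (Spec (CommRingCat.of A)))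
  let πY := k.imageι ≫ CohB1.ProjSpaceOver.toBase n (Spec (CommRingCat.of A))
  haveI : QuasiCompact k.toImage := by infer_instance
  obtain ⟨I, Y', b, hb, hadm, V', hle, h, hh, k', hk', hcomp⟩ :=
    RZExt.exists_dominating p W hWc k.toImage πY (by
      rw [show k.toImage ≫ πY = (k.toImage ≫ k.imageι) ≫ CohB1.ProjSpaceOver.toBase n _ from
        (Category.assoc _ _ _).symm, Scheme.Hom.toImage_imageι, hkp])
  haveI := hh
  have hS := QProjRows.exists_isAmple_Spec A
  obtain ⟨hπ, LY, hLY⟩ := (QProjRows.closedImmersion_iff πY hS).1 ⟨n, k.imageι, inferInstance, rfl⟩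
  haveI := hπ
  obtain ⟨⟨-, -, M, hM⟩, hbp⟩ :=
    SymAlg.isQuasiProjective_and_isProper (S8910.result I hadm.1 b hb)
  haveI := hbp
  obtain ⟨L', hL'⟩ := QProjRows.exists_isAmple_of_isRelAmple b ⟨LY, hLY⟩ hM
  haveI : IsLocallyNoetherian Y' := LocallyOfFiniteType.isLocallyNoetherian (b ≫ πY)
  haveI : CompactSpace Y' := hL'.2.1
  haveI : IsNoetherian Y' := {}
  haveI : CompactSpace V'.toScheme := isCompact_iff_compactSpace.1 (NoetherianSpace.isCompact _)
  let O := k.toImage.opensRange
  haveI : IsIso (b ∣_ O) := by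
    haveI := BlowUpLib.isIso_restrict hb
    exact isIso_restrict_of_le b (W := O) (O := I.support.compl)
      fun y hy hy' => Set.disjoint_left.1 hadm.2 hy' hy
  haveI : IsIso k' := by
    have e : k' = b ∣_ O ≫ k.toImage.isoOpensRange.inv := by
      rw [← cancel_mono k.toImage, hk', Category.assoc, Scheme.Hom.isoOpensRange_inv_comp]
    rw [e]
    infer_instance
  let g := Y'.homOfLE hle
  haveI : QuasiCompact g := by
    haveI : IsNoetherian V'.toScheme :=
      { toIsLocallyNoetherian := LocallyOfFiniteType.isLocallyNoetherian V'.ι }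
    infer_instance
  haveI : CompactSpace g.image := QuasiCompact.compactSpace_of_compactSpace g.imageι
  let f := g.imageι ≫ h
  let σ := inv k' ≫ g.toImage
  have hσ : σ ≫ f = W.ι := by
    rw [Category.assoc, Scheme.Hom.toImage_imageι_assoc, hcomp, IsIso.inv_hom_id_assoc]
  have hσd : Dense (Set.range σ.base) := (inferInstance : IsDominant σ).denseRange
  refine ⟨W, g.image, f, (Scheme.Modules.pullback g.imageι).obj (L'.restrict V'.ι), hAW hxA₀, hWd,
    hσd.mono ?_, inferInstance, isIso_of_dense_section f W σ hσ hσd,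
    TMul.isAmple_pullback g.imageι g.imageι.isEmbedding.isInducing (TMul.isAmple_restrict V'.ι hL')⟩
  rintro _ ⟨a, rfl⟩
  show f (σ a) ∈ W
  rw [← Scheme.Hom.comp_apply, hσ]
  exact a.2

end Groth.Agent.AmpleNbhd
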