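import Groth.Agent.AmpleNbhd.Descent
import Groth.Agent.TMul.Ample
import Groth.Agent.CohFinite.Ample

/-!
High powers of sections vanishing outside the isomorphism locus descend along a finite morphism.
-/

set_option autoImplicit false
set_option backward.isDefEq.respectTransparency false
set_option linter.style.haveILetI false

universe u

open CategoryTheory CategoryTheory.Limits AlgebraicGeometry TopologicalSpace Opposite
open Groth.Agent.QC (res resO res_res res_smul resO_resO app_res)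
open TMul (IsGen val pw)

noncomputable section

namespace Groth.Agent.AmpleNbhd

variable {X Y : Scheme.{u}}

/-- High powers of a function vanishing where a finite morphism is not an isomorphism come from the base. -/
theorem exists_pow_mem_range (f : Y ⟶ X) [IsFinite f] (U : X.Opens) [IsIso (f ∣_ U)] {W : X.Opens}
    (hW : IsAffineOpen W) (a : Γ(X, W)) (ha : U ⊓ W = X.basicOpen a) (b : Γ(Y, f ⁻¹ᵁ W))
    (hb : Y.basicOpen b ≤ f ⁻¹ᵁ U) :
    ∃ R₀ : ℕ, ∀ R, R₀ ≤ R → ∃ q : Γ(X, W), f.app W q = b ^ R := by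
  classical
  have hV : IsAffineOpen (f ⁻¹ᵁ W) := hW.preimage f
  let a' : Γ(Y, f ⁻¹ᵁ W) := f.app W a
  have ha' : Y.basicOpen a' = f ⁻¹ᵁ X.basicOpen a := (Scheme.preimage_basicOpen f a).symm
  letI : Algebra Γ(X, X.basicOpen a) Γ(Y, f ⁻¹ᵁ X.basicOpen a) := (f.app _).hom.toAlgebra
  letI : Algebra Γ(X, W) Γ(Y, f ⁻¹ᵁ W) := (f.app W).hom.toAlgebra
  have hloc : ∀ m : Γ(Y, f ⁻¹ᵁ W), ∃ N : ℕ, a' ^ N * m ∈ (f.app W).hom.range := by
    intro m
    obtain ⟨x, hx⟩ := (CohBig.app_bijective_of_isIso f U (X.basicOpen a) (ha.ge.trans inf_le_left)).2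
      (resO Y (f.preimage_mono (X.basicOpen_le a)) m)
    obtain ⟨n, y₀, hy⟩ := (QC.isLoc_of_isQCoh hW (hM := QC.isQCoh_unit X)).exists_extend a
      (show Γ(Coh.structureModule X, X.basicOpen a) from x)
    let y : Γ(X, W) := y₀
    have hy' : resO X (X.basicOpen_le a) y = resO X (X.basicOpen_le a) a ^ n * x := hy
    let d : Γ(Y, f ⁻¹ᵁ W) := a' ^ n * m - f.app W y
    have hd : resO Y (f.preimage_mono (X.basicOpen_le a)) d = 0 := by
      simp only [d, a', map_sub, map_mul, map_pow]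
      rw [show resO Y (f.preimage_mono (X.basicOpen_le a)) (f.app W y) =
          f.app (X.basicOpen a) (resO X (X.basicOpen_le a) y) from
            (ConcreteCategory.congr_hom (f.naturality (homOfLE (X.basicOpen_le a)).op) y).symm,
        show resO Y (f.preimage_mono (X.basicOpen_le a)) (f.app W a) =
          f.app (X.basicOpen a) (resO X (X.basicOpen_le a) a) from
            (ConcreteCategory.congr_hom (f.naturality (homOfLE (X.basicOpen_le a)).op) a).symm,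
        hy', map_mul, map_pow, hx, sub_self]
    obtain ⟨l, hl⟩ := (QC.isLoc_of_isQCoh hV (hM := QC.isQCoh_unit Y)).exists_pow_smul_eq_zero a'
      (show Γ(Coh.structureModule Y, f ⁻¹ᵁ W) from d) (by
        show resO Y (Y.basicOpen_le a') d = 0
        rw [← resO_resO ha'.le (f.preimage_mono (X.basicOpen_le a)), hd, map_zero])
    have hl' : a' ^ l * d = 0 := hl
    refine ⟨l + n, a ^ l * y, ?_⟩
    show f.app W (a ^ l * y) = _
    rw [map_mul, map_pow, pow_add, mul_assoc]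
    exact (sub_eq_zero.1 ((mul_sub _ _ _).symm.trans hl')).symm
  have hfin : (f.app W).hom.Finite := f.finite_app W hW
  obtain ⟨s, hs⟩ : (⊤ : Submodule Γ(X, W) Γ(Y, f ⁻¹ᵁ W)).FG := hfin.fg_top
  choose N hN using hloc
  let N₀ := s.sup N
  have hall : ∀ m : Γ(Y, f ⁻¹ᵁ W), a' ^ N₀ * m ∈ (f.app W).hom.range := fun m => by
    have hm : m ∈ Submodule.span Γ(X, W) (s : Set Γ(Y, f ⁻¹ᵁ W)) := hs ▸ Submodule.mem_top
    induction hm using Submodule.span_induction with
    | mem x hx =>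
      rw [show N₀ = (N₀ - N x) + N x from (Nat.sub_add_cancel (Finset.le_sup (f := N) hx)).symm, pow_add, mul_assoc]
      exact Subring.mul_mem _ (Subring.pow_mem _ (RingHom.mem_range_self (f.app W).hom a) _) (hN x)
    | zero => rw [mul_zero]; exact Subring.zero_mem _
    | add x y _ _ hx hy => rw [mul_add]; exact Subring.add_mem _ hx hy
    | smul r x _ hx =>
      show a' ^ N₀ * (f.app W r * x) ∈ _
      rw [mul_left_comm]
      exact Subring.mul_mem _ (RingHom.mem_range_self (f.app W).hom r) hx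
  have hle : Y.basicOpen b ≤ Y.basicOpen a' := by
    rw [ha', ← ha]
    exact fun y hy => ⟨hb hy, Y.basicOpen_le b hy⟩
  obtain ⟨p, d, hpd⟩ : ∃ (p : ℕ) (d : Γ(Y, f ⁻¹ᵁ W)), b ^ p = a' * d := by
    have h2 : PrimeSpectrum.basicOpen b ≤ PrimeSpectrum.basicOpen a' := by
      rw [← hV.fromSpec_preimage_basicOpen b, ← hV.fromSpec_preimage_basicOpen a']
      exact hV.fromSpec.preimage_mono hle
    obtain ⟨p, hp⟩ := (PrimeSpectrum.basicOpen_le_basicOpen_iff b a').1 h2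
    obtain ⟨d, hd⟩ := Ideal.mem_span_singleton'.1 hp
    exact ⟨p, d, hd.symm.trans (mul_comm _ _)⟩
  refine ⟨p * N₀, fun R hR => ?_⟩
  rw [← Nat.add_sub_cancel' hR, pow_add, pow_mul, hpd, mul_pow, mul_assoc]
  exact RingHom.mem_range.1 (hall _)

/-- Sections of an invertible module on the source, each vanishing outside the isomorphism locus on
every piece it does not trivialise, descend after a common power. -/
theorem exists_ample_descent {κ J : Type u} [Finite κ] [Finite J] (f : Y ⟶ X) [IsFinite f] (U : X.Opens)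
    [IsIso (f ∣_ U)] (W : κ → X.Opens) (hW : ∀ z, IsAffineOpen (W z)) (a : ∀ z, Γ(X, W z))
    (ha : ∀ z, U ⊓ W z = X.basicOpen (a z)) (hsep : ∀ z w, z ≠ w → W z ⊓ W w ≤ U)
    (hcov : ∀ x : X, x ∈ U ∨ ∃ z, x ∈ W z) {M : Y.Modules} (hM : PicF.IsInvertible M)
    (t : J → (Coh.structureModule Y ⟶ M)) (j : κ → J) (hj : ∀ z, f ⁻¹ᵁ W z ≤ CohB1.genLocus M (t (j z)))
    (ht : ∀ i z, i = j z ∨ f ⁻¹ᵁ W z ⊓ CohB1.genLocus M (t i) ≤ f ⁻¹ᵁ U) :
    ∃ (n : ℕ) (L : X.Modules), 1 ≤ n ∧ PicF.IsInvertible L ∧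
      Nonempty ((Scheme.Modules.pullback f).obj L ≅ CohB1.tensorPow M n) ∧
      ∀ i, ∃ s : Coh.structureModule X ⟶ L, f ⁻¹ᵁ CohB1.genLocus L s = CohB1.genLocus M (t i) := by
  classical
  let e : ∀ z, Γ(M, f ⁻¹ᵁ W z) := fun z => val (t (j z)) (f ⁻¹ᵁ W z)
  have he : ∀ z, IsGen (e z) := fun z => by
    have h := (TMul.isGen_genLocus (t (j z))).res (hj z)
    rwa [show res M (hj z) (val (t (j z)) _) = e z from TMul.res_val _ _] at h
  have hc : ∀ i z, ∃ c : Γ(Y, f ⁻¹ᵁ W z), val (t i) (f ⁻¹ᵁ W z) = c • e z ∧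
      ∃ R₀ : ℕ, ∀ R, R₀ ≤ R → ∃ q : Γ(X, W z), f.app (W z) q = c ^ R := fun i z => by
    by_cases h : i = j z
    · exact ⟨1, by subst h; rw [one_smul], 0, fun R _ => ⟨1, by rw [map_one, one_pow]⟩⟩
    · obtain ⟨c, hc⟩ := (he z _ le_rfl).2 (val (t i) (f ⁻¹ᵁ W z))
      simp only [Groth.Agent.QC.res_self] at hc
      refine ⟨c, hc.symm, exists_pow_mem_range f U (hW z) (a z) (ha z) c ?_⟩
      rw [← TMul.genLocus_inf (t i) (he z) hc.symm]
      exact (ht i z).resolve_left h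
  choose c hc R₀ hR₀ using hc
  haveI := Fintype.ofFinite J
  haveI := Fintype.ofFinite κ
  let R := (Finset.univ : Finset (J × κ)).sup (fun p => R₀ p.1 p.2) + 1
  have hR : ∀ i z, R₀ i z ≤ R := fun i z =>
    (Finset.le_sup (f := fun p : J × κ => R₀ p.1 p.2) (Finset.mem_univ (i, z))).trans (Nat.le_succ _)
  choose q hq using fun i z => hR₀ i z R (hR i z)
  obtain ⟨L, hL, hiso, hsec⟩ := exists_descent f U W hsep hcov (TMul.isInvertible_tensorPow hM R)
    (fun z => pw (e z) R) fun z => TMul.isGen_pw (he z) R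
  refine ⟨R, L, Nat.succ_pos _, hL, hiso, fun i => ?_⟩
  obtain ⟨s, hs, hsU⟩ := hsec (val (SecTwist.powHom (t i) R) ⊤) (q i) fun z => by
    rw [hq, ← TMul.pw_smul, ← hc i z, TMul.res_val]
    exact (SecTwist.val_powHom (t i) R _).trans (TMul.pow_eq_pw (t i) _ _)
  refine ⟨s, ?_⟩
  have hhom : TMul.homOf (val (SecTwist.powHom (t i) R) ⊤) = SecTwist.powHom (t i) R := CohFinite.homOf_val _
  rw [hhom, TMul.genLocus_powHom hM] at hsU
  ext y
  rcases hcov (f y) with h | ⟨z, hz⟩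
  · exact ⟨fun hy => (hsU.le (show y ∈ f ⁻¹ᵁ (U ⊓ _) from ⟨h, hy⟩)).2,
      fun hy => (hsU.ge ⟨h, hy⟩ : y ∈ f ⁻¹ᵁ (U ⊓ _)).2⟩
  · have h1 : f ⁻¹ᵁ W z ⊓ CohB1.genLocus M (t i) = Y.basicOpen (c i z) :=
      TMul.genLocus_inf (t i) (he z) (hc i z)
    have h2 : f ⁻¹ᵁ (W z ⊓ CohB1.genLocus L s) = Y.basicOpen (c i z) := by
      rw [hs z, Scheme.preimage_basicOpen, hq, Scheme.basicOpen_pow _ _ (Nat.succ_pos _)]
    exact ⟨fun hy => (h1.ge (h2.le (show y ∈ f ⁻¹ᵁ (W z ⊓ _) from ⟨hz, hy⟩))).2,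
      fun hy => (h2.ge (h1.le ⟨hz, hy⟩) : y ∈ f ⁻¹ᵁ (W z ⊓ _)).2⟩

end Groth.Agent.AmpleNbhd
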