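import Groth.Agent.AmpleNbhd.Dominating
import Groth.Agent.AmpleNbhd.Modification
import Groth.Agent.RZExt.ExtendIdeal
import Groth.Agent.S17381
import Groth.Agent.S9708
import Groth.Agent.S8910
import Groth.Agent.Nagata.Projective
import Groth.Agent.BlowUpExist.Global
import Groth.Agent.SymAlg.ProjProper
import Groth.Agent.BlowUpLib.Basic

/-!
The refined Chow lemma by admissible blow-ups for a quasi-projective dense open.
-/

set_option autoImplicit false
set_option backward.isDefEq.respectTransparency false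
set_option linter.style.haveILetI false

universe u

open CategoryTheory CategoryTheory.Limits AlgebraicGeometry TopologicalSpace

noncomputable section

namespace Groth.Agent.AmpleNbhd

/-- A blow-up of an open extends to the ambient scheme. -/
theorem exists_blowUp_extension {Y : Scheme.{u}} (V : Y.Opens) (J : Y.IdealSheafData) {Z : Scheme.{u}}
    (c : Z ⟶ V.toScheme) (hc : BlowUp.IsBlowUp c (J.comap V.ι)) :
    ∃ (Y' : Scheme.{u}) (b : Y' ⟶ Y) (u : Z ⟶ Y'), BlowUp.IsBlowUp b J ∧ IsOpenImmersion u ∧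
      u ≫ b = c ≫ V.ι := by
  obtain ⟨Y', b, hb⟩ := BlowUpExist.exists_isBlowUp Y J
  have hP := BlowUpLib.isBlowUp_flat V.ι hb
  obtain ⟨e, he, -⟩ := hP.2 Z c hc.1
  obtain ⟨e', he', -⟩ := hc.2 _ (pullback.fst V.ι b) hP.1
  have h1 : e ≫ e' = 𝟙 Z := (hc.2 Z c hc.1).unique (by rw [Category.assoc, he', he]) (Category.id_comp c)
  have h2 : e' ≫ e = 𝟙 _ := (hP.2 _ _ hP.1).unique (by rw [Category.assoc, he, he']) (Category.id_comp _)
  haveI : IsIso e := ⟨e', h1, h2⟩
  refine ⟨Y', b, e ≫ pullback.snd V.ι b, hb, inferInstance, ?_⟩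
  rw [Category.assoc, ← pullback.condition, ← Category.assoc, he]

/-- The refined Chow lemma. -/
theorem exists_refinedChow {X S : Scheme.{u}} [CompactSpace S] [QuasiSeparatedSpace S] (f : X ⟶ S)
    [IsSeparated f] [QuasiCompact f] [LocallyOfFiniteType f] (U : X.Opens) (hU : IsCompact (U : Set X))
    (hUd : Dense (U : Set X)) (hq : RelProj.IsQuasiProjective (U.ι ≫ f)) :
    ∃ (𝓘 : X.IdealSheafData) (X' P : Scheme.{u}) (q : X' ⟶ X) (j : X' ⟶ P) (g : P ⟶ S),
      BlowUp.IsBlowUp q 𝓘 ∧ BlowUp.IsAdmissibleFor U 𝓘 ∧ RelProj.IsProjective g ∧ IsOpenImmersion j ∧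
        IsDominant j ∧ j ≫ g = q ≫ f := by
  haveI : CompactSpace X := QuasiCompact.compactSpace_of_compactSpace f
  haveI : QuasiSeparatedSpace X := quasiSeparatedSpace_of_quasiSeparated f
  obtain ⟨P₀, p, i, hp, hi, hiq, hip⟩ := Nagata.exists_immersion_projective hq
  haveI := hi
  haveI := hiq
  let πY := i.imageι ≫ p
  have hπYp : RelProj.IsProjective πY := SymAlg.isProjective_closedImm_comp i.imageι hp
  haveI : IsProper πY := (SymAlg.isQuasiProjective_and_isProper hπYp).2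
  obtain ⟨I, Y', b, hb, hadm, V', hle, h, hh, hS, k, hk, hcomp⟩ :=
    exists_dominating' f U hU i.toImage πY (by
      rw [show i.toImage ≫ πY = (i.toImage ≫ i.imageι) ≫ p from (Category.assoc _ _ _).symm,
        Scheme.Hom.toImage_imageι, hip])
  haveI := hh
  obtain ⟨⟨-, hbq, -⟩, hbp⟩ := SymAlg.isQuasiProjective_and_isProper (S8910.result I hadm.1 b hb)
  haveI := hbp
  haveI : CompactSpace i.image := QuasiCompact.compactSpace_of_compactSpace πY
  haveI : QuasiSeparatedSpace i.image := quasiSeparatedSpace_of_quasiSeparated πY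
  haveI : CompactSpace Y' := QuasiCompact.compactSpace_of_compactSpace b
  haveI : QuasiSeparatedSpace Y' := quasiSeparatedSpace_of_quasiSeparated b
  let O := i.toImage.opensRange
  have hsub : ((b ⁻¹ᵁ O : Y'.Opens) : Set Y') ⊆ (V' : Set Y') := hle
  have hOd : Dense ((b ⁻¹ᵁ O : Y'.Opens) : Set Y') := by
    have h1 : Dense ((b ⁻¹ᵁ I.support.compl : Y'.Opens) : Set Y') := by
      have := RZExt.dense_awayFrom hb.1
      rwa [Scheme.IdealSheafData.support_comap, Closeds.coe_preimage] at this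
    have hO : Dense (O : Set i.image) := (inferInstance : IsDominant i.toImage).denseRange
    haveI := BlowUpLib.isIso_restrict hb
    refine dense_iff_inter_open.2 fun W hW hne => ?_
    let C : i.image.Opens := I.support.compl
    obtain ⟨y, hyW, hyC⟩ := dense_iff_inter_open.1 h1 W hW hne
    obtain ⟨-, ⟨z, hzW, rfl⟩, hzO⟩ := dense_iff_inter_open.1 hO _
      ((b ∣_ C ≫ C.ι).isOpenEmbedding.isOpenMap _ (hW.preimage (b ⁻¹ᵁ C).ι.continuous))
      ⟨_, ⟨y, hyC⟩, hyW, rfl⟩
    refine ⟨(b ⁻¹ᵁ C).ι z, hzW, ?_⟩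
    show b ((b ⁻¹ᵁ C).ι z) ∈ O
    rw [← Scheme.Hom.comp_apply, ← morphismRestrict_ι]
    exact hzO
  haveI : IsIso (b ∣_ O) := by
    haveI := BlowUpLib.isIso_restrict hb
    exact isIso_restrict_of_le b (W := O) (O := I.support.compl)
      fun y hy hy' => Set.disjoint_left.1 hadm.2 hy' hy
  haveI : IsIso k := by
    have e : k = b ∣_ O ≫ i.toImage.isoOpensRange.inv := by
      rw [← cancel_mono i.toImage, hk, Category.assoc, Scheme.Hom.isoOpensRange_inv_comp]
    rw [e]
    infer_instance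
  let σ := inv k ≫ Y'.homOfLE hle
  have hσ : σ ≫ h = U.ι := by rw [Category.assoc, hcomp, IsIso.inv_hom_id_assoc]
  have hσd : Dense (Set.range σ.base) := by
    refine dense_iff_inter_open.2 fun W hW hne => ?_
    obtain ⟨w, hw⟩ := hne
    obtain ⟨-, ⟨v, hv, rfl⟩, hvO⟩ := dense_iff_inter_open.1 hOd _
      (V'.ι.isOpenEmbedding.isOpenMap W hW) ⟨_, w, hw, rfl⟩
    refine ⟨v, hv, k ⟨V'.ι v, hvO⟩, V'.ι.injective ?_⟩
    rw [← Scheme.Hom.comp_apply k σ, ← Category.assoc, IsIso.hom_inv_id, Category.id_comp,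
      ← Scheme.Hom.comp_apply, Scheme.homOfLE_ι]
    rfl
  haveI : IsIso (h ∣_ U) := isIso_of_dense_section h U σ hσ hσd
  have hU' : Dense ((h ⁻¹ᵁ U : (V' : Scheme.{u}).Opens) : Set V') := by
    refine hσd.mono ?_
    rintro _ ⟨a, rfl⟩
    show h (σ a) ∈ U
    rw [← Scheme.Hom.comp_apply, hσ]
    exact a.2
  haveI : CompactSpace U.toScheme := isCompact_iff_compactSpace.1 hU
  haveI : CompactSpace V'.toScheme := QuasiCompact.compactSpace_of_compactSpace h
  obtain ⟨I', 𝓘, Z, c, hc, hadm', hq', hadmX⟩ := S17381.result h U hU hUd hU'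
  have hO' : IsCompact ((b ⁻¹ᵁ O : Y'.Opens) : Set Y') :=
    b.isCompact_preimage (isCompact_range i.toImage.continuous)
  obtain ⟨J, hJft, hJd, hJ⟩ := RZExt.exists_extend_centre (b ⁻¹ᵁ O) V' hO'
    (isCompact_iff_compactSpace.2 ‹CompactSpace V'.toScheme›) I' hadm'.1 (by
      refine hadm'.2.mono_right fun v hv => ?_
      show h v ∈ U
      have e : v = Y'.homOfLE hle ⟨V'.ι v, hv⟩ := V'.ι.injective (by
        rw [← Scheme.Hom.comp_apply, Scheme.homOfLE_ι]; rfl)
      rw [e, ← Scheme.Hom.comp_apply, hcomp]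
      exact (k ⟨V'.ι v, hv⟩).2)
  obtain ⟨Y₂, b₂, u, hb₂, hu, hub⟩ := exists_blowUp_extension V' J c (hJ.symm ▸ hc)
  haveI := hu
  have hg₂ : RelProj.IsProjective (b₂ ≫ b ≫ πY) := by
    have h1 : RelProj.IsProjective (b ≫ πY) := S9708.result b πY (S8910.result I hadm.1 b hb) hπYp
    haveI := quasiSeparatedSpace_of_quasiSeparated (b ≫ πY)
    exact S9708.result b₂ (b ≫ πY) (S8910.result J hJft b₂ hb₂) h1
  haveI : IsProper (b₂ ≫ b ≫ πY) := (SymAlg.isQuasiProjective_and_isProper hg₂).2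
  haveI : QuasiCompact u := by
    haveI : IsProper c := BlowUpExist.isProper_of_isFiniteType hc hadm'.1
    haveI : QuasiCompact (u ≫ b₂ ≫ b ≫ πY) := by
      rw [reassoc_of% hub]; infer_instance
    exact QuasiCompact.of_comp u (b₂ ≫ b ≫ πY)
  refine ⟨𝓘, Z, u.image, c ≫ h, u.toImage, u.imageι ≫ b₂ ≫ b ≫ πY, hq', hadmX,
    SymAlg.isProjective_closedImm_comp _ hg₂, inferInstance, inferInstance, ?_⟩
  rw [Scheme.Hom.toImage_imageι_assoc, reassoc_of% hub, Category.assoc]
  rw [hS]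

end Groth.Agent.AmpleNbhd
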